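import Cfsg.Prelude.Def_OddOrderLocal
import Mathlib.GroupTheory.PGroup

/-!
# Elementary abelian subgroups and `p`-rank, for subgroups of an ambient group
-/

set_option autoImplicit false
set_option linter.style.haveILetI false

namespace CfsgLib.OddOrder

open Cfsg Subgroup

variable {G : Type*} [Group G] {p : ℕ}

theorem isElementaryAbelian_mono {A B : Subgroup G} (h : A ≤ B)
    (hB : Cfsg.IsElementaryAbelian p B) : Cfsg.IsElementaryAbelian p A :=
  ⟨⟨⟨fun a b => Subtype.ext (by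
      haveI := hB.1
      exact setLike_mul_comm (s := B) (h a.2) (h b.2))⟩⟩,
    fun a ha => hB.2 a (h ha)⟩

theorem isElementaryAbelian_map {H : Type*} [Group H] (f : G →* H) {A : Subgroup G}
    (hA : Cfsg.IsElementaryAbelian p A) : Cfsg.IsElementaryAbelian p (A.map f) := by
  refine ⟨⟨⟨?_⟩⟩, ?_⟩
  · rintro ⟨_, a, ha, rfl⟩ ⟨_, b, hb, rfl⟩
    refine Subtype.ext ?_
    have h := congrArg Subtype.val (hA.1.is_comm.comm ⟨a, ha⟩ ⟨b, hb⟩)
    show f a * f b = f b * f a
    rw [← map_mul, ← map_mul]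
    exact congrArg f h
  · rintro _ ⟨a, ha, rfl⟩
    rw [← map_pow, hA.2 a ha, map_one]

theorem isPGroup_of_isElementaryAbelian {A : Subgroup G} (hA : Cfsg.IsElementaryAbelian p A) :
    IsPGroup p A :=
  fun a => ⟨1, by ext; simpa using hA.2 a a.2⟩

theorem not_pRankLE_of_le [Fact p.Prime] {A H : Subgroup G} {k : ℕ} (hAH : A ≤ H)
    (hA : Cfsg.IsElementaryAbelian p A) (hc : p ^ (k + 1) ≤ Nat.card A) :
    ¬ Cfsg.PRankLE p k H := by
  intro h
  have hA' : Cfsg.IsElementaryAbelian p (A.subgroupOf H) :=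
    ⟨⟨⟨fun a b => by
        haveI := hA.1
        ext
        exact setLike_mul_comm (s := A) a.2 b.2⟩⟩,
      fun a ha => by ext; simpa using hA.2 a ha⟩
  have hle := h _ hA'.1 hA'.2
  rw [Nat.card_congr (subgroupOfEquivOfLe hAH).toEquiv] at hle
  have hlt : p ^ k < p ^ (k + 1) := Nat.pow_lt_pow_right (Fact.out : p.Prime).one_lt (by omega)
  omega

variable [Finite G]

theorem exists_elementary_of_not_pRankLE [Fact p.Prime] {H : Subgroup G} {k : ℕ}
    (h : ¬ Cfsg.PRankLE p k H) :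
    ∃ A : Subgroup G, A ≤ H ∧ Cfsg.IsElementaryAbelian p A ∧ p ^ (k + 1) ≤ Nat.card A := by
  simp only [Cfsg.PRankLE, not_forall, not_le] at h
  obtain ⟨B, hB1, hB2, hB3⟩ := h
  refine ⟨B.map H.subtype, map_subtype_le _, isElementaryAbelian_map _ ⟨hB1, hB2⟩, ?_⟩
  rw [card_map_of_injective H.subtype_injective]
  obtain ⟨n, hn⟩ := IsPGroup.iff_card.1 (isPGroup_of_isElementaryAbelian (A := B) ⟨hB1, hB2⟩)
  rw [hn] at hB3 ⊢
  exact Nat.pow_le_pow_right (Fact.out : p.Prime).pos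
    ((Nat.pow_lt_pow_iff_right (Fact.out : p.Prime).one_lt).1 hB3)

theorem exists_elementary_of_not_rankLE {H : Subgroup G} {k : ℕ} (h : ¬ Cfsg.RankLE k H) :
    ∃ p : ℕ, p.Prime ∧
      ∃ A : Subgroup G, A ≤ H ∧ Cfsg.IsElementaryAbelian p A ∧ p ^ (k + 1) ≤ Nat.card A := by
  simp only [Cfsg.RankLE, not_forall] at h
  obtain ⟨p, hp, hr⟩ := h
  haveI := Fact.mk hp
  exact ⟨p, hp, exists_elementary_of_not_pRankLE hr⟩

theorem not_rankLE_of_le [Fact p.Prime] {A H : Subgroup G} {k : ℕ} (hAH : A ≤ H)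
    (hA : Cfsg.IsElementaryAbelian p A) (hc : p ^ (k + 1) ≤ Nat.card A) :
    ¬ Cfsg.RankLE k H :=
  fun h => not_pRankLE_of_le hAH hA hc (h p Fact.out)

/-- An elementary abelian group of order at least `p ^ 2` is not cyclic. -/
theorem not_isCyclic_of_elementary [Fact p.Prime] {A : Subgroup G}
    (hA : Cfsg.IsElementaryAbelian p A) (hc : p ^ 2 ≤ Nat.card A) : ¬ IsCyclic A := by
  intro hcyc
  obtain ⟨g, hg⟩ := hcyc.exists_ofOrder_eq_natCard
  have hd : orderOf g ∣ p :=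
    orderOf_dvd_of_pow_eq_one (Subtype.ext (by simpa using hA.2 g g.2))
  have h1 := Nat.le_of_dvd (Fact.out : p.Prime).pos hd
  have h2 : p < p ^ 2 := by
    conv_lhs => rw [← pow_one p]
    exact Nat.pow_lt_pow_right (Fact.out : p.Prime).one_lt (by omega)
  omega

end CfsgLib.OddOrder
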