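import Cfsg.Agent.OddOrder.BG7.Basic
import Mathlib.GroupTheory.Abelianization.Defs
import Mathlib.GroupTheory.IsSubnormal

/-!
# BG 7.5: passing the transitivity of maximal invariant `q`-subgroups to a larger π(A)-group
-/

set_option autoImplicit false
set_option linter.style.haveILetI false

namespace CfsgLib.OddOrder

open Cfsg Subgroup
open Pointwise
open scoped commutatorElement

variable {G : Type*} [Group G] [Finite G] {A : Subgroup G}

/-- The `O_{π(A)'}` of the centralizer of `P ≥ A` is the centralizer of `P` in that of `A`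
(BG 7.5(a)). -/
theorem transHyp_core_inf_centralizer (hG : Cfsg.IsMinSimpleOddOrder G)
    (hA : Cfsg.TransitivityHypothesis A) {P : Subgroup G} (hAP : A ≤ P) :
    Cfsg.piCoreOf (Cfsg.primesNotDvd (Nat.card A)) (centralizer (A : Set G)) ⊓
        centralizer (P : Set G) =
      Cfsg.piCoreOf (Cfsg.primesNotDvd (Nat.card A)) (centralizer (P : Set G)) := by
  set π := Cfsg.primesNotDvd (Nat.card A)
  have hC : centralizer (P : Set G) ≤ centralizer (A : Set G) := centralizer_le hAP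
  refine le_antisymm ?_ ?_
  · refine le_piCoreOf inf_le_right ?_
      (isPiSubgroup_mono inf_le_left (isPiSubgroup_piCoreOf π _))
    intro g hg
    rw [mem_normalizer_iff]
    intro x
    exact and_congr (mem_normalizer_iff.1 (le_normalizer_piCoreOf π _ (hC hg)) x)
      (mem_normalizer_iff.1 (le_normalizer hg) x)
  · exact le_inf
      (transHyp_le_core_centralizer hG hA (isPiSubgroup_piCoreOf π _)
        ((piCoreOf_le π _).trans hC))
      (piCoreOf_le π _)

theorem normalizer_le_normalizer_centralizer_subgroup (P : Subgroup G) :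
    normalizer (P : Set G) ≤ normalizer ((centralizer (P : Set G) : Subgroup G) : Set G) := by
  intro g hg
  rw [mem_normalizer_iff_map_conj_eq] at hg ⊢
  show (centralizer (P : Set G)).map (MulAut.conj g).toMonoidHom = _
  rw [map_conj_centralizer]
  congr 1
  conv_rhs => rw [← hg]
  rfl

/-- BG 7.5 (b), (c). -/
theorem transHyp_superset (hG : Cfsg.IsMinSimpleOddOrder G)
    (hA : Cfsg.TransitivityHypothesis A) {q : ℕ} (hq : q.Prime) (hqA : ¬ q ∣ Nat.card A)
    (htr : ∀ Q₁ ∈ Cfsg.maxInvSubgroups ⊤ A {q}, ∀ Q₂ ∈ Cfsg.maxInvSubgroups ⊤ A {q},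
      ∃ k ∈ Cfsg.piCoreOf (Cfsg.primesNotDvd (Nat.card A)) (centralizer (A : Set G)),
        Q₂ = Q₁.map (MulAut.conj k).toMonoidHom)
    (P : Subgroup G) (hP : P ≠ ⊤) (hPπ : ∀ r : ℕ, r.Prime → r ∣ Nat.card P → r ∣ Nat.card A)
    (hAP : A ≤ P) (hsn : (A.subgroupOf P).IsSubnormal) :
    (∀ Q₁ ∈ Cfsg.maxInvSubgroups ⊤ P {q}, ∀ Q₂ ∈ Cfsg.maxInvSubgroups ⊤ P {q},
        ∃ k ∈ Cfsg.piCoreOf (Cfsg.primesNotDvd (Nat.card A)) (centralizer (P : Set G)),
          Q₂ = Q₁.map (MulAut.conj k).toMonoidHom) ∧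
      Cfsg.maxInvSubgroups ⊤ P {q} ⊆ Cfsg.maxInvSubgroups ⊤ A {q} := by
  haveI : Fact q.Prime := ⟨hq⟩
  set π := Cfsg.primesNotDvd (Nat.card A) with hπ
  generalize hn : Nat.card P = n
  induction n using Nat.strong_induction_on generalizing P with
  | _ n ih =>
  by_cases htop : A.subgroupOf P = ⊤
  · obtain rfl : A = P := le_antisymm hAP (subgroupOf_eq_top.1 htop)
    exact ⟨htr, subset_rfl⟩
  obtain ⟨D', hD'n, hAD', hD'lt⟩ := hsn.exists_normal_and_le_and_lt_top_of_ne htop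
  set D := D'.map P.subtype with hDdef
  have hDP : D ≤ P := map_subtype_le _
  have hAD : A ≤ D := by
    rw [← map_subgroupOf_eq_of_le hAP]
    exact map_mono hAD'
  have hD'eq : D.subgroupOf P = D' :=
    comap_map_eq_self_of_injective P.subtype_injective D'
  have hPD : P ≤ normalizer (D : Set G) := by
    rw [← normal_subgroupOf_iff_le_normalizer hDP, hD'eq]
    exact hD'n
  have hlt : Nat.card D < n := by
    rw [← hn, hDdef, card_map_of_injective P.subtype_injective]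
    refine lt_of_le_of_ne (card_le_card_group _) fun h => hD'lt.ne ?_
    exact (card_eq_iff_eq_top _).1 h
  have hsnD : (A.subgroupOf D).IsSubnormal := by
    have := Subgroup.IsSubnormal.comap (inclusion hDP) hsn
    rwa [show (A.subgroupOf P).comap (inclusion hDP) = A.subgroupOf D from rfl] at this
  obtain ⟨hb, hc⟩ := ih _ hlt D (ne_top_of_le_ne_top hP hDP)
    (fun r hr hd => hPπ r hr (hd.trans (card_dvd_of_le hDP))) hAD hsnD rfl
  set KD := Cfsg.piCoreOf π (centralizer (D : Set G)) with hKD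
  have hPKD : P ≤ normalizer (KD : Set G) :=
    hPD.trans ((normalizer_le_normalizer_centralizer_subgroup D).trans
      (normalizer_le_normalizer_piCoreOf π _))
  have hcop : ∀ {Y : Subgroup G}, IsPiSubgroup π Y → (Nat.card P).Coprime (Nat.card Y) :=
    fun hY => Nat.coprime_of_dvd fun r hr hdP hdY => (hY r hr hdY).2 (hPπ r hr hdP)
  have hsolv : ∀ Y : Subgroup G, Group.IsSolvable P ∨ Group.IsSolvable Y :=
    fun _ => Or.inl (minSimple_solvable hG hP)
  -- a `P`-invariant maximal `D`-invariant subgroup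
  obtain ⟨Q, hQ, -⟩ := exists_maxInv_ge (bot_mem_invSubgroups ⊤ D ({q} : Set ℕ))
  obtain ⟨g, hg, hPQ⟩ := Coprime.exists_invariant_conj hPKD
    (hcop (isPiSubgroup_piCoreOf π _)) (hsolv _) Q (fun a ha => by
      obtain ⟨k, hk, e⟩ := hb Q hQ _ (map_conj_mem_maxInv (hPD ha) hQ)
      exact ⟨k, hk, e⟩)
  have hCN : centralizer (D : Set G) ≤ normalizer (D : Set G) := centralizer_le_normalizer _
  set Q₀ : Subgroup G := MulAut.conj g • Q with hQ₀
  have hQ₀D : Q₀ ∈ Cfsg.maxInvSubgroups ⊤ D {q} :=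
    map_conj_mem_maxInv (hCN (piCoreOf_le π _ hg)) hQ
  have hQ₀P : Q₀ ∈ Cfsg.maxInvSubgroups ⊤ P {q} :=
    ⟨⟨le_top, hQ₀D.1.2.1, hPQ⟩, fun R hR hle => hQ₀D.2 R ⟨le_top, hR.2.1, hDP.trans hR.2.2⟩ hle⟩
  have hsub : Cfsg.maxInvSubgroups ⊤ P {q} ⊆ Cfsg.maxInvSubgroups ⊤ D {q} := by
    intro R hR
    by_cases hRbot : R = ⊥
    · have := maxInv_eq_bot_of_bot_mem (hRbot ▸ hR) hQ₀P
      rw [hRbot, ← this]
      exact hQ₀D
    obtain ⟨T, hT, hRT⟩ := exists_maxInv_ge
      (show R ∈ Cfsg.invSubgroups ⊤ D {q} from ⟨le_top, hR.1.2.1, hDP.trans hR.1.2.2⟩)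
    suffices hRT' : R = T by rwa [hRT']
    by_contra hne
    have hTp := isPGroup_of_isPiSubgroup hT.1.2.1
    set X := normalizer (R : Set G) with hXdef
    have hX : X ≠ ⊤ := minSimple_normalizer_ne_top hG hRbot
      (minSimple_ne_top_of_isPGroup hG (hTp.to_le hRT))
    have hPX : P ≤ X := hR.1.2.2
    have hqπ : ({q} : Set ℕ) ⊆ π := by
      rintro r rfl
      exact ⟨hq, hqA⟩
    set L := Cfsg.piCoreOf π X with hL
    have hPL : P ≤ normalizer (L : Set G) := hPX.trans (le_normalizer_piCoreOf π X)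
    have hYinv : A ≤ normalizer ((X ⊓ T : Subgroup G) : Set G) := by
      intro a ha
      rw [mem_normalizer_iff]
      intro x
      exact and_congr (mem_normalizer_iff.1 (le_normalizer (hPX (hAP ha)) :
          a ∈ normalizer (X : Set G)) x)
        (mem_normalizer_iff.1 (hT.1.2.2 (hAD ha)) x)
    have hYL : X ⊓ T ≤ L := transHyp_le_piCoreOf hA hX (hAP.trans hPX) inf_le_left
      (isPiSubgroup_of_subset hqπ (isPiSubgroup_mono inf_le_right hT.1.2.1)) hYinv
    have hRY : R ≤ X ⊓ T := le_inf le_normalizer hRT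
    obtain ⟨S, hRS, hPS⟩ := Coprime.exists_invariant_sylow_ge hPL
      (hcop (isPiSubgroup_piCoreOf π _)) (hsolv _) (hRY.trans hYL)
      (hTp.to_le hRT) hR.1.2.2
    have hSR : (S : Subgroup L).map L.subtype = R :=
      hR.2 _ ⟨le_top, isPiSubgroup_of_isPGroup (S.isPGroup'.map _) rfl, hPS⟩ hRS
    have hS2 : (X ⊓ T).subgroupOf L = (S : Subgroup L) := by
      refine S.is_maximal' ((hTp.to_le inf_le_right).comap_of_injective _ L.subtype_injective) ?_
      refine map_le_map_iff_of_injective L.subtype_injective |>.1 ?_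
      rw [map_subgroupOf_eq_of_le hYL, hSR]
      exact hRY
    have hYR : X ⊓ T = R := by rw [← map_subgroupOf_eq_of_le hYL, hS2, hSR]
    haveI := hTp.isNilpotent
    have hlt : R.subgroupOf T < ⊤ :=
      lt_top_iff_ne_top.2 fun h => hne (le_antisymm hRT (subgroupOf_eq_top.1 h))
    have h2 := Group.normalizerCondition_of_isNilpotent _ hlt
    rw [← subgroupOf_normalizer_eq hRT, ← hXdef,
      show X.subgroupOf T = (X ⊓ T).subgroupOf T by rw [inf_subgroupOf_right], hYR] at h2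
    exact lt_irrefl _ h2
  refine ⟨fun Q₁ h₁ Q₂ h₂ => ?_, hsub.trans hc⟩
  obtain ⟨k, hk, e⟩ := hb Q₁ (hsub h₁) Q₂ (hsub h₂)
  obtain ⟨c, ⟨hcK, hcP⟩, hce⟩ := Coprime.exists_conj_eq_of_invariant hPKD
    (hcop (isPiSubgroup_piCoreOf π _)) (hsolv _) h₁.1.2.2 h₂.1.2.2 hk e.symm
  refine ⟨c, ?_, hce.symm⟩
  rw [← transHyp_core_inf_centralizer hG hA hAP]
  exact ⟨(transHyp_core_inf_centralizer hG hA hAD).ge hcK |>.1, hcP⟩

/-- BG 7.5 (d). -/
theorem transHyp_normalizer_eq (hG : Cfsg.IsMinSimpleOddOrder G)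
    {q : ℕ} {P Q : Subgroup G} (hPπ : ∀ r : ℕ, r.Prime → r ∣ Nat.card P → r ∣ Nat.card A)
    (htrP : ∀ Q₁ ∈ Cfsg.maxInvSubgroups ⊤ P {q}, ∀ Q₂ ∈ Cfsg.maxInvSubgroups ⊤ P {q},
        ∃ k ∈ Cfsg.piCoreOf (Cfsg.primesNotDvd (Nat.card A)) (centralizer (P : Set G)),
          Q₂ = Q₁.map (MulAut.conj k).toMonoidHom)
    (hQ : Q ∈ Cfsg.maxInvSubgroups ⊤ P {q}) :
    P ⊓ ⁅normalizer (P : Set G), normalizer (P : Set G)⁆ ≤
        ⁅normalizer (Q : Set G), normalizer (Q : Set G)⁆ ∧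
      normalizer (P : Set G) =
        Cfsg.piCoreOf (Cfsg.primesNotDvd (Nat.card A)) (centralizer (P : Set G)) ⊔
          (normalizer (P : Set G) ⊓ normalizer (Q : Set G)) := by
  set π := Cfsg.primesNotDvd (Nat.card A) with hπ
  set L := Cfsg.piCoreOf π (centralizer (P : Set G)) with hL
  set NP := normalizer (P : Set G) with hNP
  set N := NP ⊓ normalizer (Q : Set G) with hN
  have hLNP : L ≤ NP := (piCoreOf_le π _).trans (centralizer_le_normalizer _)
  have hNPL : NP ≤ normalizer (L : Set G) :=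
    (normalizer_le_normalizer_centralizer_subgroup P).trans (normalizer_le_normalizer_piCoreOf π _)
  have heq : NP = L ⊔ N := by
    refine le_antisymm (fun n hn => ?_) (sup_le hLNP inf_le_left)
    obtain ⟨k, hk, e⟩ := htrP Q hQ _ (map_conj_mem_maxInv hn hQ)
    have hkn : k⁻¹ * n ∈ normalizer (Q : Set G) := by
      rw [← map_conj_eq_self_iff, ← map_conj_map_conj, e, map_conj_map_conj, inv_mul_cancel,
        map_conj_one]
    have h := mul_mem (mem_sup_left hk : k ∈ L ⊔ N)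
      (mem_sup_right (Subgroup.mem_inf.2 ⟨NP.mul_mem (NP.inv_mem (hLNP hk)) hn, hkn⟩) :
        k⁻¹ * n ∈ L ⊔ N)
    simpa using h
  refine ⟨?_, heq⟩
  have hNL : N ≤ normalizer (L : Set G) := inf_le_left.trans hNPL
  have hN' : ⁅N, N⁆ ≤ normalizer (L : Set G) := (commutator_le_self N).trans hNL
  have hcomm : ⁅NP, NP⁆ ≤ L ⊔ ⁅N, N⁆ := by
    rw [commutator_le]
    intro a ha b hb
    have hdec : ∀ x ∈ NP, ∃ l ∈ L, ∃ n ∈ N, x = l * n := by
      intro x hx
      rw [heq, sup_comm, ← SetLike.mem_coe,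
        coe_mul_of_left_le_normalizer_right _ _ hNL] at hx
      obtain ⟨n, hn, l, hl, rfl⟩ := Set.mem_mul.1 hx
      refine ⟨n * l * n⁻¹, (mem_normalizer_iff.1 (hNL hn) l).1 hl, n, hn, ?_⟩
      group
    have hL' : ∀ l ∈ L, ∀ x ∈ NP, ⁅l, x⁆ ∈ L := by
      intro l hl x hx
      rw [commutatorElement_def, mul_assoc l x, mul_assoc l (x * l⁻¹)]
      exact mul_mem hl ((mem_normalizer_iff.1 (hNPL hx) _).1 (inv_mem hl))
    obtain ⟨l, hl, n, hn, rfl⟩ := hdec a ha
    obtain ⟨m, hm, o, ho, rfl⟩ := hdec b hb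
    have e : ⁅l * n, m * o⁆ = l * (⁅m, n⁆⁻¹ * (m * ⁅n, o⁆ * m⁻¹)) * l⁻¹ * ⁅l, m * o⁆ := by
      simp only [commutatorElement_def]; group
    rw [e]
    refine mul_mem (mul_mem (mul_mem (mem_sup_left hl) (mul_mem ?_ (mul_mem (mul_mem
      (mem_sup_left hm) (mem_sup_right (commutator_mem_commutator hn ho)))
      (inv_mem (mem_sup_left hm))))) (inv_mem (mem_sup_left hl))) (mem_sup_left (hL' l hl _ hb))
    exact inv_mem (mem_sup_left (hL' m hm n hn.1))
  intro x hx
  have hxL := hcomm hx.2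
  rw [sup_comm, ← SetLike.mem_coe, coe_mul_of_left_le_normalizer_right _ _ hN'] at hxL
  obtain ⟨c, hc, l, hl, hclx⟩ := Set.mem_mul.1 hxL
  subst hclx
  have hxN : c * l ∈ N := ⟨le_normalizer hx.1, hQ.1.2.2 hx.1⟩
  have hlN : l ∈ N := by
    have := mul_mem (inv_mem (commutator_le_self N hc)) hxN
    simpa using this
  have hcN : (⟨c, commutator_le_self N hc⟩ : N) ∈ commutator N := by
    rw [← map_subtype_commutator N] at hc
    obtain ⟨y, hy, hy'⟩ := hc
    have : y = ⟨c, commutator_le_self N (by rw [← map_subtype_commutator N]; exact ⟨y, hy, hy'⟩)⟩ :=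
      Subtype.ext hy'
    exact this ▸ hy
  have h1 : Abelianization.of (⟨c * l, hxN⟩ : N) = Abelianization.of (⟨l, hlN⟩ : N) := by
    rw [show (⟨c * l, hxN⟩ : N) = ⟨c, commutator_le_self N hc⟩ * ⟨l, hlN⟩ from rfl, map_mul]
    rw [show Abelianization.of (⟨c, commutator_le_self N hc⟩ : N) = 1 from
      (MonoidHom.mem_ker).1 (by rw [Abelianization.ker_of]; exact hcN), one_mul]
  have hord : ∀ {S : Subgroup G} {y : G} (hy : y ∈ S) (hyN : y ∈ N),
      orderOf (Abelianization.of (⟨y, hyN⟩ : N)) ∣ Nat.card S := by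
    intro S y hy hyN
    refine (orderOf_map_dvd _ _).trans ?_
    rw [Subgroup.orderOf_mk, ← Subgroup.orderOf_mk (H := S) y hy]
    exact orderOf_dvd_natCard _
  have hco : (Nat.card P).Coprime (Nat.card L) :=
    Nat.coprime_of_dvd fun r hr hdP hdL =>
      ((isPiSubgroup_piCoreOf π _) r hr hdL).2 (hPπ r hr hdP)
  have h2 : Abelianization.of (⟨c * l, hxN⟩ : N) = 1 := by
    rw [← orderOf_eq_one_iff]
    exact Nat.eq_one_of_dvd_coprimes hco (hord hx.1 hxN) (h1 ▸ hord hl hlN)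
  have h3 : (c * l) ∈ ⁅N, N⁆ := by
    rw [← map_subtype_commutator N]
    exact ⟨⟨c * l, hxN⟩, by rw [← Abelianization.ker_of]; exact h2, rfl⟩
  exact commutator_mono inf_le_right inf_le_right h3

end CfsgLib.OddOrder
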