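import Cfsg.Agent.OddOrder.PiCore
import Cfsg.Agent.PLocal.Constraint
import Cfsg.Agent.Coprime.Action
import Cfsg.Agent.Coprime.PTimesQ

/-!
# `p'`-subgroups normalized by `p`-subgroups in solvable groups

* `le_pPrimeCore_of_centralizer`: `O_{p'}(C_G(B)) ≤ O_{p'}(G)` (BG 1.15).
* `le_pPrimeCore_of_selfcentralizing`: a `p'`-subgroup normalized by a `p`-subgroup
  `A ≤ O_{p',p}(G)` containing all `p`-elements of its centralizer lies in `O_{p'}(G)`.
* `le_pPrimeCore_of_mem_pPrimePCore`: the part moved by an element of `O_{p',p}(G)`.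
* versions for subgroups `X` of an ambient group, with `piCoreOf (primesNotDvd p)`.
-/

set_option autoImplicit false
set_option linter.style.haveILetI false

namespace CfsgLib.OddOrder

open Cfsg Subgroup

variable {G : Type*} [Group G] [Finite G] {p : ℕ} [Fact p.Prime]

theorem isPiSubgroup_primesNotDvd_iff {Y : Subgroup G} :
    IsPiSubgroup (Cfsg.primesNotDvd p) Y ↔ (Nat.card Y).Coprime p :=
  ⟨fun h => (coprime_card_primesNotDvd h).symm,
    fun h => isPiSubgroup_primesNotDvd_of_coprime h.symm⟩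

theorem primesNotDvd_card_of_isPGroup {A : Subgroup G} (hA : IsPGroup p A) (hne : A ≠ ⊥) :
    Cfsg.primesNotDvd (Nat.card A) = Cfsg.primesNotDvd p := by
  obtain ⟨n, hn⟩ := IsPGroup.iff_card.1 hA
  have hn0 : n ≠ 0 := by
    rintro rfl
    exact hne (card_eq_one.1 (by simpa using hn))
  ext r
  simp only [Cfsg.primesNotDvd, Set.mem_setOf_eq, hn, and_congr_right_iff]
  intro hr
  exact not_congr ⟨hr.dvd_of_dvd_pow, fun h => dvd_pow h hn0⟩

theorem coprime_card_of_isPGroup {A Y : Subgroup G} (hA : IsPGroup p A)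
    (hY : (Nat.card Y).Coprime p) : (Nat.card A).Coprime (Nat.card Y) := by
  obtain ⟨n, hn⟩ := IsPGroup.iff_card.1 hA
  rw [hn]
  exact hY.symm.pow_left n

theorem inf_eq_bot_pPrime {T Y : Subgroup G} (hT : IsPGroup p T)
    (hY : (Nat.card Y).Coprime p) : T ⊓ Y = ⊥ :=
  Subgroup.inf_eq_bot_of_coprime (coprime_card_of_isPGroup hT hY)

/-- A `p`-subgroup normalizing a normal `p`-subgroup `T` and a `p'`-subgroup `Y`, and lying in `T`,
centralizes `Y`. -/
theorem le_centralizer_of_le_normal {T A Y : Subgroup G} [T.Normal] (hT : IsPGroup p T) (hAT : A ≤ T)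
    (hY : (Nat.card Y).Coprime p) (hAY : A ≤ normalizer (Y : Set G)) :
    A ≤ centralizer (Y : Set G) := by
  intro a ha
  rw [mem_centralizer_iff]
  intro y hy
  have h : y * a * y⁻¹ * a⁻¹ ∈ T ⊓ Y := by
    refine mem_inf.2 ⟨T.mul_mem ((inferInstance : T.Normal).conj_mem a (hAT ha) y) (T.inv_mem (hAT ha)), ?_⟩
    rw [mul_assoc y a, mul_assoc y (a * y⁻¹)]
    exact mul_mem hy ((mem_normalizer_iff.1 (hAY ha) _).1 (inv_mem hy))
  rw [inf_eq_bot_pPrime hT hY, mem_bot, mul_inv_eq_one, mul_inv_eq_iff_eq_mul] at h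
  exact h

/-- In a group with `C(O_p(G)) ≤ O_p(G)`: a `p'`-subgroup centralized by a `p`-subgroup `B` and
centralizing `C_{O_p(G)}(B)` is trivial. -/
theorem eq_bot_of_centralizes {B Y : Subgroup G} (hC : centralizer (pCore p G : Set G) ≤ pCore p G)
    (hB : IsPGroup p B) (hY : (Nat.card Y).Coprime p) (hBY : B ≤ centralizer (Y : Set G))
    (hT : pCore p G ⊓ centralizer (B : Set G) ≤ centralizer (Y : Set G)) : Y = ⊥ := by
  haveI : (pCore p G).Normal := Subgroup.normal_of_characteristic _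
  have hn : ∀ S : Subgroup G, S ≤ normalizer ((pCore p G : Subgroup G) : Set G) := fun S => by
    rw [normalizer_eq_top_iff.2 inferInstance]; exact le_top
  have hYT : Y ≤ pCore p G := (Coprime.le_centralizer_of_inf_centralizer_le hB hY
    (PLocal.isPGroup_pCore p G) hBY (hn B) (hn Y) hT).trans hC
  rw [eq_bot_iff, ← inf_eq_bot_pPrime (PLocal.isPGroup_pCore p G) hY]
  exact le_inf hYT le_rfl

variable [Group.IsSolvable G]

theorem centralizer_pCore_quotient_le :
    centralizer (pCore p (G ⧸ pPrimeCore p G) : Set (G ⧸ pPrimeCore p G)) ≤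
      pCore p (G ⧸ pPrimeCore p G) :=
  PLocal.centralizer_pCore_le
    (PLocal.isPSolvable_quotient PLocal.isPSolvable_of_isSolvable _)
    (PLocal.pPrimeCore_quotient_pPrimeCore_eq_bot p G)

omit [Group.IsSolvable G] in
theorem le_pPrimeCore_of_map_eq_bot {Y : Subgroup G}
    (h : Y.map (QuotientGroup.mk' (pPrimeCore p G)) = ⊥) : Y ≤ pPrimeCore p G := by
  have := (map_eq_bot_iff Y).1 h
  rwa [QuotientGroup.ker_mk'] at this

omit [Group.IsSolvable G] in
/-- Elements of `O_{p',p}(G)` centralizing the image of `B` lift to elements centralizing `B`. -/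
theorem exists_lift_centralizer {B : Subgroup G} (hB : IsPGroup p B)
    {t : G ⧸ pPrimeCore p G} (ht : t ∈ pCore p (G ⧸ pPrimeCore p G))
    (htB : t ∈ centralizer ((B.map (QuotientGroup.mk' (pPrimeCore p G))) :
      Set (G ⧸ pPrimeCore p G))) :
    ∃ c ∈ centralizer (B : Set G), QuotientGroup.mk' (pPrimeCore p G) c = t := by
  set f := QuotientGroup.mk' (pPrimeCore p G) with hf
  set T := (pCore p (G ⧸ pPrimeCore p G)).comap f with hT
  haveI : (pCore p (G ⧸ pPrimeCore p G)).Normal := Subgroup.normal_of_characteristic _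
  have hn : B ≤ normalizer (T : Set G) := by
    rw [normalizer_eq_top_iff.2 (inferInstance : T.Normal)]; exact le_top
  have hcop : (Nat.card B).Coprime (Nat.card ↥(T ⊓ f.ker)) := by
    refine coprime_card_of_isPGroup hB ?_
    rw [hf, QuotientGroup.ker_mk']
    exact PLocal.coprime_card_of_le inf_le_right (PLocal.coprime_card_pPrimeCore p G)
  haveI := hB.isNilpotent
  have h := Coprime.map_inf_centralizer f hn hcop (Or.inl inferInstance)
  rw [map_comap_eq_self_of_surjective (QuotientGroup.mk'_surjective _)] at h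
  obtain ⟨c, hc, e⟩ := h.ge (mem_inf.2 ⟨ht, htB⟩)
  exact ⟨c, hc.2, e⟩

/-- BG 1.15: a `p'`-subgroup of `C_G(B)` normalized by it, `B` a `p`-subgroup, lies in
`O_{p'}(G)`. -/
theorem le_pPrimeCore_of_centralizer {B Y : Subgroup G} (hB : IsPGroup p B)
    (hY : (Nat.card Y).Coprime p) (hYB : Y ≤ centralizer (B : Set G))
    (hn : centralizer (B : Set G) ≤ normalizer (Y : Set G)) : Y ≤ pPrimeCore p G := by
  set f := QuotientGroup.mk' (pPrimeCore p G) with hf
  haveI : (pCore p (G ⧸ pPrimeCore p G)).Normal := Subgroup.normal_of_characteristic _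
  refine le_pPrimeCore_of_map_eq_bot ?_
  have hY' : (Nat.card (Y.map f)).Coprime p := hY.coprime_dvd_left (card_map_dvd Y f)
  refine eq_bot_of_centralizes centralizer_pCore_quotient_le (hB.map f) hY' ?_ ?_
  · rintro _ ⟨b, hb, rfl⟩
    rw [mem_centralizer_iff]
    rintro _ ⟨y, hy, rfl⟩
    rw [← map_mul, ← map_mul, (mem_centralizer_iff.1 (hYB hy) b hb)]
  · rintro t ⟨ht, htB⟩
    obtain ⟨c, hc, rfl⟩ := exists_lift_centralizer hB ht htB
    have hnc : zpowers (f c) ≤ normalizer ((Y.map f : Subgroup _) : Set (G ⧸ pPrimeCore p G)) :=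
      zpowers_le.2 (le_normalizer_map f ⟨c, hn hc, rfl⟩)
    exact le_centralizer_of_le_normal (PLocal.isPGroup_pCore p _) (zpowers_le.2 ht) hY' hnc
      (mem_zpowers _)

/-- A `p'`-subgroup normalized by an element of `O_{p',p}(G)` is centralized by it modulo
`O_{p'}(G)`. -/
theorem commutator_le_pPrimeCore_of_mem {z : G} (hz : z ∈ pPrimePCore p G) {Y : Subgroup G}
    (hY : (Nat.card Y).Coprime p) (hzY : z ∈ normalizer (Y : Set G)) :
    ⁅Y, zpowers z⁆ ≤ pPrimeCore p G := by
  set f := QuotientGroup.mk' (pPrimeCore p G) with hf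
  haveI : (pCore p (G ⧸ pPrimeCore p G)).Normal := Subgroup.normal_of_characteristic _
  refine le_pPrimeCore_of_map_eq_bot ?_
  have hY' : (Nat.card (Y.map f)).Coprime p := hY.coprime_dvd_left (card_map_dvd Y f)
  have h := le_centralizer_of_le_normal (PLocal.isPGroup_pCore p (G ⧸ pPrimeCore p G))
    (A := (zpowers z).map f)
    (by rw [MonoidHom.map_zpowers, zpowers_le]; exact hz) hY'
    ((map_mono (zpowers_le.2 hzY)).trans (le_normalizer_map f))
  rw [map_commutator, commutator_eq_bot_iff_le_centralizer, le_centralizer_iff]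
  exact h

/-- A `p'`-subgroup normalized by a `p`-subgroup `A ≤ O_{p',p}(G)` that contains every `p`-element
of its centralizer lies in `O_{p'}(G)`. -/
theorem le_pPrimeCore_of_selfcentralizing {A Y : Subgroup G} (hA : IsPGroup p A)
    (hAT : A ≤ pPrimePCore p G)
    (hcent : ∀ x ∈ centralizer (A : Set G), ∀ k : ℕ, x ^ p ^ k = 1 → x ∈ A)
    (hY : (Nat.card Y).Coprime p) (hAY : A ≤ normalizer (Y : Set G)) : Y ≤ pPrimeCore p G := by
  set f := QuotientGroup.mk' (pPrimeCore p G) with hf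
  haveI : (pCore p (G ⧸ pPrimeCore p G)).Normal := Subgroup.normal_of_characteristic _
  refine le_pPrimeCore_of_map_eq_bot ?_
  have hY' : (Nat.card (Y.map f)).Coprime p := hY.coprime_dvd_left (card_map_dvd Y f)
  have hTp := PLocal.isPGroup_pCore p (G ⧸ pPrimeCore p G)
  have hAC : A.map f ≤ centralizer ((Y.map f : Subgroup _) : Set (G ⧸ pPrimeCore p G)) :=
    le_centralizer_of_le_normal hTp (map_le_iff_le_comap.2 hAT) hY'
      ((map_mono hAY).trans (le_normalizer_map f))
  refine eq_bot_of_centralizes centralizer_pCore_quotient_le (hA.map f) hY' hAC ?_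
  rintro t ⟨ht, htA⟩
  obtain ⟨c, hc, rfl⟩ := exists_lift_centralizer hA ht htA
  obtain ⟨k, hk⟩ := hTp ⟨f c, ht⟩
  have hk' : c ^ p ^ k ∈ pPrimeCore p G := by
    rw [← QuotientGroup.ker_mk' (pPrimeCore p G), MonoidHom.mem_ker, map_pow]
    exact congrArg Subtype.val hk
  set n := Nat.card (pPrimeCore p G)
  have hcA : c ^ n ∈ A := by
    refine hcent _ (pow_mem hc n) k ?_
    rw [← pow_mul, mul_comm, pow_mul]
    exact congrArg Subtype.val (pow_card_eq_one' (x := (⟨_, hk'⟩ : pPrimeCore p G)))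
  have hord : n.Coprime (orderOf (f c)) := by
    have hd : orderOf (f c) ∣ p ^ k :=
      orderOf_dvd_of_pow_eq_one (by simpa using congrArg Subtype.val hk)
    exact ((PLocal.coprime_card_pPrimeCore p G).pow_right k).coprime_dvd_right hd
  obtain ⟨m, hm⟩ := exists_pow_eq_self_of_coprime hord
  rw [← hm, ← map_pow]
  exact pow_mem (hAC (mem_map_of_mem f hcA)) m

omit [Group.IsSolvable G] in
theorem piCoreOf_primesNotDvd_eq (X : Subgroup G) :
    Cfsg.piCoreOf (Cfsg.primesNotDvd p) X = (pPrimeCore p X).map X.subtype := by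
  unfold Cfsg.piCoreOf
  congr 1
  refine congrArg sSup (Set.ext fun N => and_congr_right fun _ => ?_)
  exact isPiSubgroup_primesNotDvd_iff

omit [Group.IsSolvable G] in
theorem coprime_card_subgroupOf {X Y : Subgroup G} (hY : (Nat.card Y).Coprime p) :
    (Nat.card (Y.subgroupOf X)).Coprime p :=
  isPiSubgroup_primesNotDvd_iff.1
    (isPiSubgroup_subgroupOf (isPiSubgroup_primesNotDvd_iff.2 hY))

omit [Group.IsSolvable G] in
theorem le_piCoreOf_of_subgroupOf_le {X Y : Subgroup G} (hYX : Y ≤ X)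
    (h : Y.subgroupOf X ≤ pPrimeCore p X) : Y ≤ Cfsg.piCoreOf (Cfsg.primesNotDvd p) X := by
  rw [piCoreOf_primesNotDvd_eq, ← map_subgroupOf_eq_of_le hYX]
  exact map_mono h

omit [Group.IsSolvable G] in
theorem isPGroup_subgroupOf {X A : Subgroup G} (hA : IsPGroup p A) :
    IsPGroup p (A.subgroupOf X) :=
  hA.comap_of_injective X.subtype X.subtype_injective

omit [Group.IsSolvable G] in
theorem subgroupOf_le_normalizer_subgroupOf {X A Y : Subgroup G}
    (h : A ≤ normalizer (Y : Set G)) :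
    A.subgroupOf X ≤ normalizer ((Y.subgroupOf X : Subgroup X) : Set X) := by
  intro a ha
  rw [mem_normalizer_iff]
  intro x
  exact mem_normalizer_iff.1 (h ha) (x : G)

omit [Group.IsSolvable G] in
/-- BG 1.15 inside a solvable subgroup `X`. -/
theorem piCoreOf_inf_centralizer_le {X B : Subgroup G} (hX : Group.IsSolvable X) (hBX : B ≤ X)
    (hB : IsPGroup p B) :
    Cfsg.piCoreOf (Cfsg.primesNotDvd p) (X ⊓ centralizer (B : Set G)) ≤
      Cfsg.piCoreOf (Cfsg.primesNotDvd p) X := by
  haveI := hX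
  set N := Cfsg.piCoreOf (Cfsg.primesNotDvd p) (X ⊓ centralizer (B : Set G)) with hN
  have hNle : N ≤ X ⊓ centralizer (B : Set G) := piCoreOf_le _ _
  have hiff : ∀ x : X, x ∈ centralizer ((B.subgroupOf X : Subgroup X) : Set X) ↔
      (x : G) ∈ centralizer (B : Set G) := fun x => by
    simp only [mem_centralizer_iff]
    exact ⟨fun h b hb => congrArg Subtype.val (h ⟨b, hBX hb⟩ hb),
      fun h b hb => Subtype.ext (h b hb)⟩
  refine le_piCoreOf_of_subgroupOf_le (hNle.trans inf_le_left) ?_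
  refine le_pPrimeCore_of_centralizer (isPGroup_subgroupOf hB)
    (coprime_card_subgroupOf (isPiSubgroup_primesNotDvd_iff.1 (isPiSubgroup_piCoreOf _ _)))
    (fun x hx => (hiff x).2 (hNle hx).2) ?_
  intro c hc
  rw [mem_normalizer_iff]
  intro x
  exact mem_normalizer_iff.1 (le_normalizer_piCoreOf _ _ (mem_inf.2 ⟨c.2, (hiff c).1 hc⟩)) (x : G)

omit [Group.IsSolvable G] in
/-- `le_pPrimeCore_of_selfcentralizing` inside a solvable subgroup `X`. -/
theorem le_piCoreOf_of_selfcentralizing {X A Y : Subgroup G} (hX : Group.IsSolvable X)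
    (hAX : A ≤ X) (hA : IsPGroup p A) (hAT : A.subgroupOf X ≤ pPrimePCore p X)
    (hcent : ∀ x ∈ centralizer (A : Set G), ∀ k : ℕ, x ^ p ^ k = 1 → x ∈ A) (hYX : Y ≤ X)
    (hY : (Nat.card Y).Coprime p) (hAY : A ≤ normalizer (Y : Set G)) :
    Y ≤ Cfsg.piCoreOf (Cfsg.primesNotDvd p) X := by
  haveI := hX
  refine le_piCoreOf_of_subgroupOf_le hYX ?_
  refine le_pPrimeCore_of_selfcentralizing (isPGroup_subgroupOf hA) hAT
    (fun x hx k hk => hcent x (mem_centralizer_iff.2 fun a ha => ?_) k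
      (by simpa using congrArg Subtype.val hk))
    (coprime_card_subgroupOf hY) (subgroupOf_le_normalizer_subgroupOf hAY)
  exact congrArg Subtype.val (mem_centralizer_iff.1 hx ⟨a, hAX ha⟩ ha)

omit [Group.IsSolvable G] in
/-- `commutator_le_pPrimeCore_of_mem` inside a solvable subgroup `X`. -/
theorem commutator_le_piCoreOf_of_mem {X Y : Subgroup G} (hX : Group.IsSolvable X) {z : G}
    (hzX : z ∈ X) (hz : (⟨z, hzX⟩ : X) ∈ pPrimePCore p X) (hYX : Y ≤ X)
    (hY : (Nat.card Y).Coprime p) (hzY : z ∈ normalizer (Y : Set G)) :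
    ⁅Y, zpowers z⁆ ≤ Cfsg.piCoreOf (Cfsg.primesNotDvd p) X := by
  haveI := hX
  have h := map_mono (f := X.subtype) (commutator_le_pPrimeCore_of_mem hz
    (coprime_card_subgroupOf (X := X) hY)
    (subgroupOf_le_normalizer_subgroupOf (X := X) (zpowers_le.2 hzY) (mem_zpowers z)))
  rw [map_commutator, map_subgroupOf_eq_of_le hYX, MonoidHom.map_zpowers,
    ← piCoreOf_primesNotDvd_eq] at h
  exact h

end CfsgLib.OddOrder
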