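import Cfsg.Agent.OddOrder.BG7.Basic
import Cfsg.Agent.OddOrder.BG7.Rank
import Cfsg.Agent.OddOrder.BG7.PConstraint
import Cfsg.Agent.OddOrder.BG4.Basic
import Cfsg.Agent.OddOrder.BG6Maximal
import Cfsg.Agent.Coprime.Generation

/-!
# BG 7.6: subgroups satisfying the transitivity hypothesis

The second criterion uses, as a hypothesis, that an abelian normal subgroup of a Sylow
`p`-subgroup of a proper subgroup lies in its `O_{p',p}` (BG 6.x, statement S1457).
-/

set_option autoImplicit false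
set_option linter.style.haveILetI false

namespace CfsgLib.OddOrder

open Cfsg Subgroup
open Pointwise
open scoped commutatorElement

variable {G : Type*} [Group G] [Finite G] {p : ℕ} [Fact p.Prime]

/-- An abelian normal subgroup of a Sylow `p`-subgroup of a solvable subgroup lies in its
`O_{p',p}`: the property S1457, for all proper subgroups. -/
abbrev AbelianNormalBound (p : ℕ) (G : Type*) [Group G] : Prop :=
  ∀ H : Subgroup G, H ≠ ⊤ → ∀ (S : Sylow p H) (D : Subgroup H), D ≤ (S : Subgroup H) →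
    IsMulCommutative D → (S : Subgroup H) ≤ normalizer (D : Set H) → D ≤ Cfsg.pPrimePCore p H

/-- Every subgroup of order prime to `p` invariant under `A` lying in a proper subgroup lies in
its `O_{p'}`: this is the transitivity hypothesis for a `p`-subgroup. -/
theorem transitivityHypothesis_of_isPGroup {A : Subgroup G}
    (hA : IsPGroup p A) (h1 : A ≠ ⊥) (h2 : A ≠ ⊤)
    (h : ∀ X : Subgroup G, X ≠ ⊤ → A ≤ X → ∀ Y : Subgroup G, Y ≤ X → (Nat.card Y).Coprime p →
      A ≤ normalizer (Y : Set G) → Y ≤ Cfsg.piCoreOf (Cfsg.primesNotDvd p) X) :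
    Cfsg.TransitivityHypothesis A := by
  refine ⟨h1, h2, fun X hX hAX => ?_⟩
  rw [primesNotDvd_card_of_isPGroup hA h1]
  refine le_antisymm (sSup_le fun Y hY => ?_) (le_sSup ?_)
  · exact h X hX hAX Y hY.1 (isPiSubgroup_primesNotDvd_iff.1 hY.2.1) hY.2.2
  · exact ⟨piCoreOf_le _ X, isPiSubgroup_piCoreOf _ X, hAX.trans (le_normalizer_piCoreOf _ X)⟩

/-- A self-centralizing normal subgroup of a Sylow `p`-subgroup contains all `p`-elements of its
centralizer. -/
theorem scn_mem_of_pow_eq_one {P : Sylow p G} {A : Subgroup G}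
    (hA : Cfsg.IsSCN (P : Subgroup G) A) {x : G} (hx : x ∈ centralizer (A : Set G)) {k : ℕ}
    (hk : x ^ p ^ k = 1) : x ∈ A := by
  set N := normalizer (A : Set G) with hN
  have hxN : x ∈ N := centralizer_le_normalizer _ hx
  let P' : Sylow p N := P.subtype hA.2.1
  have hxp : IsPGroup p (zpowers (⟨x, hxN⟩ : N)) := by
    rintro ⟨y, hy⟩
    obtain ⟨i, rfl⟩ := mem_zpowers_iff.1 hy
    refine ⟨k, Subtype.ext ?_⟩
    have hx1 : (⟨x, hxN⟩ : N) ^ (p ^ k) = 1 := Subtype.ext (by simpa using hk)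
    show ((⟨x, hxN⟩ : N) ^ i) ^ (p ^ k) = 1
    rw [← zpow_natCast, ← zpow_mul, mul_comm, zpow_mul, zpow_natCast, hx1, one_zpow]
  obtain ⟨S, hS⟩ := hxp.exists_le_sylow
  obtain ⟨g, hg⟩ := Coprime.exists_conj_map_sylow P' S |> fun ⟨g, hg, e⟩ =>
    (⟨⟨g, hg⟩, e⟩ : ∃ g : N, MulAut.conj (g : G) • (P' : Subgroup N).map N.subtype =
      (S : Subgroup N).map N.subtype)
  have hxS : x ∈ (S : Subgroup N).map N.subtype := ⟨⟨x, hxN⟩, hS (mem_zpowers _), rfl⟩
  rw [← hg, Sylow.coe_subtype, map_subgroupOf_eq_of_le hA.2.1, Coprime.mem_conj_smul] at hxS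
  have hgA := mem_normalizer_iff.1 (inv_mem g.2 : (g : G)⁻¹ ∈ N)
  rw [inv_inv] at hgA
  refine (hgA x).2 ?_
  rw [← hA.2.2]
  refine ⟨hxS, mem_centralizer_iff.2 fun a ha => ?_⟩
  have ha' : (g : G) * a * (g : G)⁻¹ ∈ A := (mem_normalizer_iff.1 g.2 a).1 ha
  have := mem_centralizer_iff.1 hx _ ha'
  calc a * ((g : G)⁻¹ * x * g) = (g : G)⁻¹ * ((g * a * (g : G)⁻¹) * x) * g := by group
    _ = (g : G)⁻¹ * (x * (g * a * (g : G)⁻¹)) * g := by rw [this]
    _ = (g : G)⁻¹ * x * g * a := by group

theorem scn_isMulCommutative {P A : Subgroup G} (hA : Cfsg.IsSCN P A) : IsMulCommutative A := by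
  refine ⟨⟨fun a b => Subtype.ext ?_⟩⟩
  have : (b : G) ∈ P ⊓ centralizer (A : Set G) := hA.2.2.symm ▸ b.2
  exact mem_centralizer_iff.1 this.2 a a.2

/-- In a self-centralizing normal subgroup of rank at least two of a Sylow subgroup `P`: a
noncyclic elementary subgroup of order `p²` containing a central element `z` of `P`, and whose
centralizer in `P` has index at most `p`. -/
theorem scn_exists_elementary {P : Sylow p G} {A : Subgroup G}
    (hA : Cfsg.IsSCN (P : Subgroup G) A) (hr : ¬ Cfsg.PRankLE p 1 A) :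
    ∃ (z : G) (B C : Subgroup G), z ≠ 1 ∧ z ∈ B ∧ B ≤ A ∧ Cfsg.IsElementaryAbelian p B ∧
      ¬ IsCyclic B ∧ C ≤ (P : Subgroup G) ∧ C ≤ centralizer (B : Set G) ∧ z ∈ C ∧
      (P : Subgroup G) ≤ centralizer ({z} : Set G) ∧ Nat.card P ≤ p * Nat.card C := by
  have hAc := scn_isMulCommutative hA
  obtain ⟨hAP, hPN, -⟩ := hA
  have hp : p.Prime := Fact.out
  -- the elements of order dividing `p` of `A`
  let W : Subgroup G :=
    { carrier := {x | x ∈ A ∧ x ^ p = 1}
      one_mem' := ⟨one_mem _, one_pow _⟩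
      mul_mem' := fun {a b} ha hb => ⟨mul_mem ha.1 hb.1, by
        rw [(show Commute a b from setLike_mul_comm (s := A) ha.1 hb.1).mul_pow, ha.2, hb.2,
          one_mul]⟩
      inv_mem' := fun {a} ha => ⟨inv_mem ha.1, by rw [inv_pow, ha.2, inv_one]⟩ }
  have hWA : W ≤ A := fun x hx => hx.1
  have hWe : Cfsg.IsElementaryAbelian p W :=
    ⟨⟨⟨fun a b => Subtype.ext (setLike_mul_comm (s := A) (hWA a.2) (hWA b.2))⟩⟩,
      fun a ha => ha.2⟩
  obtain ⟨B₀, hB₀A, hB₀, hB₀c⟩ := exists_elementary_of_not_pRankLE hr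
  have hWc : p ^ 2 ≤ Nat.card W :=
    hB₀c.trans (card_le_of_le fun x hx => ⟨hB₀A hx, hB₀.2 x hx⟩)
  set W' := W.subgroupOf (P : Subgroup G) with hW'
  haveI hW'n : W'.Normal := by
    rw [normal_subgroupOf_iff (hWA.trans hAP)]
    intro h k hh hk
    refine ⟨(mem_normalizer_iff.1 (hPN hk) h).1 hh.1, ?_⟩
    rw [conj_pow, hh.2, mul_one, mul_inv_cancel]
  have hW'c : p ^ 2 ≤ Nat.card W' := by
    rw [Nat.card_congr (subgroupOfEquivOfLe (hWA.trans hAP)).toEquiv]; exact hWc
  have hp1 : p < p ^ 2 := by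
    conv_lhs => rw [← pow_one p]
    exact Nat.pow_lt_pow_right hp.one_lt (by omega)
  obtain ⟨z, hzW, hzc, hzo⟩ := BG4.exists_central_orderOf_prime P.isPGroup' (N := W') (by
    intro h
    rw [h, card_bot] at hW'c
    have := hp.one_lt
    omega)
  set Z := zpowers z with hZ
  have hZc : Z ≤ center (P : Subgroup G) := zpowers_le.2 hzc
  haveI : Z.Normal := ⟨fun n hn g => by
    have hcomm : g * n = n * g := mem_center_iff.1 (hZc hn) g
    rwa [hcomm, mul_inv_cancel_right]⟩
  have hne : W'.map (QuotientGroup.mk' Z) ≠ ⊥ := by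
    intro h
    rw [Subgroup.map_eq_bot_iff, QuotientGroup.ker_mk'] at h
    have := card_le_of_le h
    rw [Nat.card_zpowers, hzo] at this
    omega
  haveI : (W'.map (QuotientGroup.mk' Z)).Normal :=
    hW'n.map _ (QuotientGroup.mk'_surjective _)
  obtain ⟨ybar, hyW, hyc, hyo⟩ :=
    BG4.exists_central_orderOf_prime (P.isPGroup'.to_quotient Z) hne
  obtain ⟨y, hy, rfl⟩ := hyW
  have hyZ : y ∉ Z := by
    intro h
    rw [show QuotientGroup.mk' Z y = 1 from (QuotientGroup.eq_one_iff y).2 h, orderOf_one] at hyo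
    exact hp.one_lt.ne hyo
  have hcom : ∀ a : (P : Subgroup G), ⁅a, y⁆ ∈ Z := by
    intro a
    rw [← QuotientGroup.eq_one_iff, ← QuotientGroup.mk'_apply, map_commutatorElement,
      commutatorElement_eq_one_iff_commute]
    exact mem_center_iff.1 hyc _
  let φ : (P : Subgroup G) →* Z :=
    { toFun := fun a => ⟨⁅a, y⁆, hcom a⟩
      map_one' := Subtype.ext (commutatorElement_one_left y)
      map_mul' := fun a b => Subtype.ext (by
        show ⁅a * b, y⁆ = ⁅a, y⁆ * ⁅b, y⁆
        have h1 : a * ⁅b, y⁆ = ⁅b, y⁆ * a := mem_center_iff.1 (hZc (hcom b)) a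
        have h2 : ⁅a, y⁆ * ⁅b, y⁆ = ⁅b, y⁆ * ⁅a, y⁆ := mem_center_iff.1 (hZc (hcom b)) _
        rw [h2]
        calc ⁅a * b, y⁆ = a * ⁅b, y⁆ * a⁻¹ * ⁅a, y⁆ := by
              simp only [commutatorElement_def]; group
          _ = ⁅b, y⁆ * ⁅a, y⁆ := by rw [h1, mul_inv_cancel_right]) }
  set B := closure ({(z : G), (y : G)} : Set G) with hB
  set C := φ.ker.map (P : Subgroup G).subtype with hC
  have hzA : (z : G) ∈ W := hzW
  have hyA : (y : G) ∈ W := hy
  have hBW : B ≤ W := by
    rw [hB, closure_le]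
    rintro x (rfl | rfl)
    exacts [hzA, hyA]
  have hzP : (P : Subgroup G) ≤ centralizer ({(z : G)} : Set G) := fun a ha =>
    mem_centralizer_singleton_iff.2 (congrArg Subtype.val (mem_center_iff.1 hzc ⟨a, ha⟩))
  refine ⟨z, B, C, ?_, subset_closure (by simp), hBW.trans hWA, isElementaryAbelian_mono hBW hWe,
    ?_, map_subtype_le _, ?_, ⟨z, ?_, rfl⟩, hzP, ?_⟩
  · intro h
    apply hp.one_lt.ne
    rw [← hzo, ← Subgroup.orderOf_coe, h, orderOf_one]
  · intro hcyc
    obtain ⟨g, hg⟩ := hcyc.exists_ofOrder_eq_natCard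
    have hd : Nat.card B ∣ p := hg ▸
      orderOf_dvd_of_pow_eq_one (Subtype.ext (by simpa using hWe.2 g (hBW g.2)))
    have h1 : zpowers (z : G) = B := eq_of_le_of_card_ge (zpowers_le.2 (subset_closure (by simp)))
      (by rw [Nat.card_zpowers, Subgroup.orderOf_coe, hzo]; exact Nat.le_of_dvd hp.pos hd)
    have : (y : G) ∈ zpowers (z : G) := h1 ▸ subset_closure (by simp)
    obtain ⟨i, hi⟩ := mem_zpowers_iff.1 this
    exact hyZ (mem_zpowers_iff.2 ⟨i, Subtype.ext (by simpa using hi)⟩)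
  · rw [le_centralizer_iff, hB, closure_le]
    have hk : ∀ c : (P : Subgroup G), c ∈ φ.ker → Commute c y := fun c hc =>
      commutatorElement_eq_one_iff_commute.1 (congrArg Subtype.val (MonoidHom.mem_ker.1 hc))
    rintro x (rfl | rfl)
    · exact mem_centralizer_iff.2 fun c hc => by
        obtain ⟨c, -, rfl⟩ := hc
        exact congrArg Subtype.val (mem_center_iff.1 hzc c)
    · exact mem_centralizer_iff.2 fun c hc => by
        obtain ⟨c, hc, rfl⟩ := hc
        exact congrArg Subtype.val (hk c hc).eq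
  · refine MonoidHom.mem_ker.2 (Subtype.ext ?_)
    exact commutatorElement_eq_one_iff_commute.2 (mem_center_iff.1 hzc y).symm
  · rw [hC, card_map_of_injective (P : Subgroup G).subtype_injective, ← φ.ker.card_mul_index,
      index_ker, mul_comm p]
    refine Nat.mul_le_mul_left _ ?_
    calc Nat.card φ.range ≤ Nat.card Z := card_le_card_group _
      _ = p := by rw [hZ, Nat.card_zpowers, hzo]

theorem isPGroup_of_abelian_or_sylow {P : Sylow p G} {A : Subgroup G}
    (hA : Cfsg.IsSCN (P : Subgroup G) A) : IsPGroup p A :=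
  P.isPGroup'.to_le hA.1

/-- BG 7.6, second criterion. -/
theorem transitivityHypothesis_of_scn (hG : Cfsg.IsMinSimpleOddOrder G)
    (habn : AbelianNormalBound p G) {P : Sylow p G} {A : Subgroup G}
    (hA : Cfsg.IsSCN (P : Subgroup G) A) (hr : ¬ Cfsg.PRankLE p 1 A) :
    Cfsg.TransitivityHypothesis A := by
  have hAp : IsPGroup p A := isPGroup_of_abelian_or_sylow hA
  obtain ⟨z, B, C, hz1, hzB, hBA, hB, hBnc, hCP, hCB, hzC, hPz, hcard⟩ :=
    scn_exists_elementary hA hr
  have hAc := scn_isMulCommutative hA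
  have hA1 : A ≠ ⊥ := fun h => hz1 (mem_bot.1 (h ▸ hBA hzB))
  refine transitivityHypothesis_of_isPGroup hAp hA1
    (minSimple_ne_top_of_isPGroup hG hAp) fun X hX hAX Y hYX hY hAY => ?_
  set π := Cfsg.primesNotDvd p with hπ
  have hAcent : ∀ {b : G}, b ∈ A → A ≤ centralizer ({b} : Set G) := fun hb a ha =>
    mem_centralizer_singleton_iff.2 (setLike_mul_comm (s := A) ha hb)
  have hzA : z ∈ A := hBA hzB
  -- invariant subgroups in the centralizer of the central element `z`
  set H₁ := centralizer ({z} : Set G) with hH₁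
  have hH₁t : H₁ ≠ ⊤ := minSimple_centralizer_singleton_ne_top hG hz1
  have hz_step : ∀ V : Subgroup G, V ≤ H₁ → (Nat.card V).Coprime p →
      A ≤ normalizer (V : Set G) → V ≤ Cfsg.piCoreOf π H₁ := by
    intro V hV hVc hAV
    refine le_piCoreOf_of_selfcentralizing (minSimple_solvable hG hH₁t) (hAcent hzA) hAp ?_
      (fun x hx k hk => scn_mem_of_pow_eq_one hA hx hk) hV hVc hAV
    refine habn H₁ hH₁t (P.subtype hPz) _ ?_ ?_ ?_
    · exact comap_mono hA.1
    · exact ⟨⟨fun a b => Subtype.ext (Subtype.ext (setLike_mul_comm (s := A) a.2 b.2))⟩⟩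
    · exact subgroupOf_le_normalizer_subgroupOf hA.2.1
  haveI := hB.1
  refine Coprime.le_of_forall_inf_centralizer_le hBnc (hBA.trans hAY)
    (coprime_card_of_isPGroup (isPGroup_of_isElementaryAbelian hB) hY) fun b hb hb1 => ?_
  set H := centralizer ({b} : Set G) with hH
  have hHt : H ≠ ⊤ := minSimple_centralizer_singleton_ne_top hG hb1
  have hAH : A ≤ H := hAcent (hBA hb)
  set Y₀ := Y ⊓ H with hY₀
  have hY₀c : (Nat.card Y₀).Coprime p := PLocal.coprime_card_of_le inf_le_left hY
  have hAY₀ : A ≤ normalizer (Y₀ : Set G) := by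
    intro a ha
    rw [mem_normalizer_iff]
    intro x
    exact and_congr (mem_normalizer_iff.1 (hAY ha) x)
      (mem_normalizer_iff.1 (le_normalizer (hAH ha) : a ∈ normalizer (H : Set G)) x)
  have hzH : z ∈ H := hAH hzA
  have hCH : C ≤ H := fun c hc =>
    mem_centralizer_singleton_iff.2 (mem_centralizer_iff.1 (hCB hc) b hb).symm
  -- `z` lies in `O_{p',p}(C(b))`
  have hzT : (⟨z, hzH⟩ : H) ∈ Cfsg.pPrimePCore p H := by
    set C' := C.subgroupOf H with hC'
    obtain ⟨S, hS⟩ := (isPGroup_subgroupOf (P.isPGroup'.to_le hCP) : IsPGroup p C').exists_le_sylow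
    set D' := C' ⊓ centralizer (C' : Set H) with hD'
    have hzD : (⟨z, hzH⟩ : H) ∈ D' := ⟨hzC, mem_centralizer_iff.2 fun c hc => Subtype.ext
      (mem_centralizer_singleton_iff.1 (hPz (hCP hc)))⟩
    have hSC : (S : Subgroup H) ≤ normalizer (C' : Set H) := by
      by_contra hcon
      have hlt : C'.subgroupOf (S : Subgroup H) < ⊤ := by
        refine lt_top_iff_ne_top.2 fun h => hcon ?_
        have he : C' = (S : Subgroup H) := le_antisymm hS (subgroupOf_eq_top.1 h)
        exact he.ge.trans le_normalizer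
      haveI := S.isPGroup'.isNilpotent
      have h2 := Group.normalizerCondition_of_isNilpotent _ hlt
      set M := normalizer ((C'.subgroupOf (S : Subgroup H) : Subgroup (S : Subgroup H)) :
        Set (S : Subgroup H)) with hM
      have hMtop : M = ⊤ := by
        refine eq_top_of_card_eq _ (le_antisymm (card_le_card_group _) ?_)
        have hc : Nat.card (C'.subgroupOf (S : Subgroup H)) = Nat.card C := by
          rw [Nat.card_congr (subgroupOfEquivOfLe hS).toEquiv,
            Nat.card_congr (subgroupOfEquivOfLe hCH).toEquiv]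
        have hlt2 := Set.ncard_lt_ncard (h2 : C'.subgroupOf (S : Subgroup H) < M) (Set.toFinite _)
        obtain ⟨i, hi⟩ := IsPGroup.iff_card.1 (S.isPGroup'.to_subgroup M)
        obtain ⟨j, hj⟩ :=
          IsPGroup.iff_card.1 (S.isPGroup'.to_subgroup (C'.subgroupOf (S : Subgroup H)))
        have hSP : Nat.card (S : Subgroup H) ≤ Nat.card P := by
          obtain ⟨Q, hQ⟩ := (S.isPGroup'.map H.subtype).exists_le_sylow
          rw [← card_map_of_injective H.subtype_injective]
          refine (card_le_of_le hQ).trans (le_of_eq ?_)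
          exact Nat.card_congr (Sylow.equiv Q P).toEquiv
        have hlt3 : Nat.card (C'.subgroupOf (S : Subgroup H)) < Nat.card M := hlt2
        rw [hi, hj] at hlt3
        have hij := (Nat.pow_lt_pow_iff_right (Fact.out : p.Prime).one_lt).1 hlt3
        calc Nat.card (S : Subgroup H) ≤ p * Nat.card C := hSP.trans hcard
          _ = p ^ (j + 1) := by rw [← hc, hj, pow_succ']
          _ ≤ Nat.card M := hi ▸ Nat.pow_le_pow_right (Fact.out : p.Prime).pos hij
      refine hcon fun s hs => ?_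
      have : (⟨s, hs⟩ : (S : Subgroup H)) ∈ M := hMtop ▸ mem_top _
      rw [hM, ← subgroupOf_normalizer_eq hS] at this
      exact this
    refine habn H hHt S D' (inf_le_left.trans hS) ?_ ?_ hzD
    · exact ⟨⟨fun u v => Subtype.ext (mem_centralizer_iff.1 v.2.2 u u.2.1)⟩⟩
    · intro s hs
      rw [mem_normalizer_iff]
      intro x
      refine and_congr (mem_normalizer_iff.1 (hSC hs) x) (mem_normalizer_iff.1 ?_ x)
      have hsC := hSC hs
      rw [mem_normalizer_iff_map_conj_eq] at hsC ⊢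
      show (centralizer (C' : Set H)).map (MulAut.conj s).toMonoidHom = _
      rw [map_conj_centralizer]
      congr 1
      conv_rhs => rw [← hsC]
      rfl
  -- decomposition of `Y₀` under `z`
  have hY₀H : Y₀ ≤ Cfsg.piCoreOf π H := by
    have hzN : zpowers z ≤ normalizer (Y₀ : Set G) := zpowers_le.2 (hAY₀ hzA)
    have hzp : IsPGroup p (zpowers z) := hAp.to_le (zpowers_le.2 hzA)
    have hsol : Group.IsSolvable (zpowers z) ∨ Group.IsSolvable Y₀ :=
      Or.inl (minSimple_solvable hG (minSimple_ne_top_of_isPGroup hG hzp))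
    rw [← Coprime.commutator_sup_centralizer hzN (coprime_card_of_isPGroup hzp hY₀c) hsol]
    refine sup_le ?_ ?_
    · exact commutator_le_piCoreOf_of_mem (minSimple_solvable hG hHt) hzH hzT inf_le_right hY₀c
        (hAY₀ hzA)
    · have hceq : centralizer ((zpowers z : Subgroup G) : Set G) = H₁ := by
        rw [zpowers_eq_closure, centralizer_closure]
      rw [hceq]
      have hVA : A ≤ normalizer ((Y₀ ⊓ H₁ : Subgroup G) : Set G) := by
        intro a ha
        rw [mem_normalizer_iff]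
        intro x
        exact and_congr (mem_normalizer_iff.1 (hAY₀ ha) x)
          (mem_normalizer_iff.1 (le_normalizer (hAcent hzA ha) : a ∈ normalizer (H₁ : Set G)) x)
      have h1 : Y₀ ⊓ H₁ ≤ Cfsg.piCoreOf π H₁ ⊓ H :=
        le_inf (hz_step _ inf_le_right (PLocal.coprime_card_of_le inf_le_left hY₀c) hVA)
          (inf_le_left.trans inf_le_right)
      have h2 : Y₀ ⊓ H₁ ≤ Cfsg.piCoreOf π (H ⊓ H₁) := by
        rw [inf_comm H H₁]
        exact h1.trans (piCoreOf_inf_le π H₁ H)
      refine h2.trans ?_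
      rw [← hceq]
      exact piCoreOf_inf_centralizer_le (minSimple_solvable hG hHt) (zpowers_le.2 hzH) hzp
  have h3 : Y₀ ≤ Cfsg.piCoreOf π (X ⊓ H) := by
    rw [inf_comm X H]
    exact (le_inf hY₀H (inf_le_left.trans hYX)).trans (piCoreOf_inf_le π H X)
  refine h3.trans ?_
  have hbeq : centralizer ((zpowers b : Subgroup G) : Set G) = H := by
    rw [zpowers_eq_closure, centralizer_closure]
  rw [← hbeq]
  exact piCoreOf_inf_centralizer_le (minSimple_solvable hG hX)
    (zpowers_le.2 (hAX (hBA hb))) (hAp.to_le (zpowers_le.2 (hBA hb)))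

/-- BG 7.6, first criterion. -/
theorem transitivityHypothesis_of_elementary (hG : Cfsg.IsMinSimpleOddOrder G) {A : Subgroup G}
    (hA : IsPGroup p A) (hAc : IsMulCommutative A) (hp : p ∣ Nat.card G)
    (hcent : ∀ x ∈ centralizer (A : Set G), x ^ p = 1 ↔ x ∈ A)
    (hpl : ∀ H : Subgroup G, H ≠ ⊤ → Cfsg.PLengthLE p 1 H) :
    Cfsg.TransitivityHypothesis A := by
  have hAC : A ≤ centralizer (A : Set G) := le_centralizer_iff_isMulCommutative.2 hAc
  have hAe : Cfsg.IsElementaryAbelian p A := ⟨hAc, fun a ha => (hcent a (hAC ha)).2 ha⟩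
  have hA1 : A ≠ ⊥ := by
    rintro rfl
    obtain ⟨g, hg⟩ := exists_prime_orderOf_dvd_card' p hp
    have hmem : g ∈ (⊥ : Subgroup G) := (hcent g
      (mem_centralizer_iff.2 fun a ha => by rw [mem_bot.1 ha, one_mul, mul_one])).1
      (hg ▸ pow_orderOf_eq_one g)
    rw [mem_bot.1 hmem, orderOf_one] at hg
    exact (Fact.out : p.Prime).one_lt.ne hg
  refine transitivityHypothesis_of_isPGroup hA hA1 (minSimple_ne_top_of_isPGroup hG hA)
    fun X hX hAX Y hYX hY hAY => le_piCoreOf_of_subgroupOf_le hYX ?_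
  haveI := minSimple_solvable hG hX
  refine le_pPrimeCore_of_maximal_elementary (minSimple_prime_ne_two hG hp) (hpl X hX)
    (E := A.subgroupOf X) ?_ ?_ (coprime_card_subgroupOf hY)
    (subgroupOf_le_normalizer_subgroupOf hAY)
  · exact ⟨⟨⟨fun a b => Subtype.ext (Subtype.ext (setLike_mul_comm (s := A) a.2 b.2))⟩⟩,
      fun a ha => Subtype.ext (by simpa using hAe.2 a ha)⟩
  · intro B hB hle
    refine le_antisymm (fun x hx => ?_) hle
    haveI := hB.1
    refine (hcent (x : G) (mem_centralizer_iff.2 fun a ha => ?_)).1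
      (by simpa using congrArg Subtype.val (hB.2 x hx))
    exact congrArg Subtype.val
      (setLike_mul_comm (s := B) (hle (show (⟨a, hAX ha⟩ : X) ∈ A.subgroupOf X from ha)) hx)

end CfsgLib.OddOrder
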