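import Cfsg.Agent.OddOrder.BG7.Basic
import Cfsg.Agent.OddOrder.BG7.Rank
import Cfsg.Agent.Coprime.Generation

/-!
# BG 7.3 and 7.4: the transitivity theorem in a minimal simple group of odd order
-/

set_option autoImplicit false
set_option linter.style.haveILetI false

namespace CfsgLib.OddOrder

open Cfsg Subgroup
open Pointwise

variable {G : Type*} [Group G] [Finite G] {A : Subgroup G}

/-- A noncyclic abelian group acting coprimely on a nontrivial group has a nontrivial element with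
nontrivial centralizer there. -/
theorem exists_inf_centralizer_ne_bot {B Q : Subgroup G} (hBc : IsMulCommutative B)
    (hB : ¬ IsCyclic B) (hBQ : B ≤ normalizer (Q : Set G))
    (hcop : (Nat.card B).Coprime (Nat.card Q)) (hQ : Q ≠ ⊥) :
    ∃ b ∈ B, b ≠ 1 ∧ Q ⊓ centralizer ({b} : Set G) ≠ ⊥ := by
  by_contra h
  simp only [not_exists, not_and, not_not] at h
  haveI := hBc
  exact hQ (le_bot_iff.1
    (Coprime.le_of_forall_inf_centralizer_le hB hBQ hcop fun b hb hb1 => (h b hb hb1).le))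

/-- An elementary abelian group has a subgroup of index at most `p` avoiding a given element. -/
theorem exists_subgroup_avoiding {p : ℕ} [Fact p.Prime] {B : Subgroup G}
    (hB : Cfsg.IsElementaryAbelian p B) {b : G} (hb : b ∈ B) (hb1 : b ≠ 1) :
    ∃ B₁ : Subgroup G, B₁ ≤ B ∧ b ∉ B₁ ∧ Nat.card B ≤ p * Nat.card B₁ := by
  haveI := hB.1
  obtain ⟨B₁, -, ⟨hle, hbn⟩, hmax⟩ :=
    (Set.toFinite {S : Subgroup G | S ≤ B ∧ b ∉ S}).exists_le_maximal
      (show (⊥ : Subgroup G) ∈ {S : Subgroup G | S ≤ B ∧ b ∉ S} from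
        ⟨bot_le, fun h => hb1 (mem_bot.1 h)⟩)
  refine ⟨B₁, hle, hbn, ?_⟩
  have hcomm : ∀ {x y : G}, x ∈ B → y ∈ B → x * y = y * x := fun hx hy =>
    setLike_mul_comm (s := B) hx hy
  have hN : ∀ {S T : Subgroup G}, S ≤ B → T ≤ B → S ≤ normalizer (T : Set G) := by
    intro S T hS hT
    refine le_trans (fun s hs => ?_) (centralizer_le_normalizer _)
    exact mem_centralizer_iff.2 fun t ht => hcomm (hT ht) (hS hs)
  have hzle : zpowers b ≤ B := zpowers_le.2 hb
  have hcov : B ≤ B₁ ⊔ zpowers b := by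
    intro x hx
    by_contra hxn
    have hlt : B₁ < B₁ ⊔ zpowers x :=
      lt_of_le_of_ne le_sup_left fun h => hxn (mem_sup_left (h ▸ mem_sup_right (mem_zpowers x)))
    have hbin : b ∈ B₁ ⊔ zpowers x := by
      by_contra hbn'
      exact hlt.not_ge (hmax ⟨sup_le hle (zpowers_le.2 hx), hbn'⟩ hlt.le)
    rw [← SetLike.mem_coe, coe_mul_of_left_le_normalizer_right _ _
      (hN hle (zpowers_le.2 hx))] at hbin
    obtain ⟨u, hu, v, hv, huv⟩ := Set.mem_mul.1 hbin
    obtain ⟨i, rfl⟩ := mem_zpowers_iff.1 hv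
    have hx1 : x ≠ 1 := fun h => hxn (h ▸ one_mem _)
    have hox : orderOf x = p := orderOf_eq_prime (hB.2 x hx) hx1
    have hv1 : x ^ i ≠ 1 := fun h => hbn (by rw [← huv, h, mul_one]; exact hu)
    have hprime : (Nat.card (zpowers x)).Prime := by
      rw [Nat.card_zpowers, hox]; exact Fact.out
    haveI := Fact.mk hprime
    have hgen : zpowers (x ^ i) = zpowers x := by
      refine (eq_bot_or_eq_top_of_prime_card ((zpowers (x ^ i)).subgroupOf (zpowers x))).elim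
        (fun h => ?_) (fun h => ?_)
      · exfalso
        apply hv1
        have : (⟨x ^ i, hv⟩ : zpowers x) ∈ (zpowers (x ^ i)).subgroupOf (zpowers x) :=
          mem_zpowers (x ^ i)
        rw [h, mem_bot] at this
        exact congrArg Subtype.val this
      · exact le_antisymm (zpowers_le.2 hv) (subgroupOf_eq_top.1 h)
    have hxin : x ^ i ∈ B₁ ⊔ zpowers b := by
      have : x ^ i = u⁻¹ * b := by rw [← huv, inv_mul_cancel_left]
      rw [this]
      exact mul_mem (mem_sup_left (inv_mem hu)) (mem_sup_right (mem_zpowers b))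
    exact hxn (zpowers_le.2 hxin (hgen ▸ mem_zpowers x))
  have hbp : Nat.card (zpowers b) = p := by
    rw [Nat.card_zpowers]
    exact orderOf_eq_prime (hB.2 b hb) hb1
  have hle' : Nat.card B ≤ Nat.card ↥(B₁ ⊔ zpowers b) := card_le_of_le hcov
  refine hle'.trans ?_
  have h1 : Nat.card ↥(B₁ ⊔ zpowers b) ≤ Nat.card B₁ * Nat.card (zpowers b) := by
    have hs : (↑(B₁ ⊔ zpowers b) : Set G) = (B₁ : Set G) * (zpowers b : Set G) :=
      coe_mul_of_left_le_normalizer_right _ _ (hN hle hzle)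
    show Nat.card (↑(B₁ ⊔ zpowers b) : Set G) ≤ _
    rw [hs]
    exact Set.natCard_mul_le
  rw [hbp, mul_comm] at h1
  exact h1

theorem le_centralizer_singleton_of_mem_center {b : G}
    (hb : b ∈ A ⊓ centralizer (A : Set G)) : A ≤ centralizer ({b} : Set G) :=
  fun a ha => mem_centralizer_singleton_iff.2 (mem_centralizer_iff.1 hb.2 a ha)

theorem coprime_card_of_mem_invSubgroups {q : ℕ} {H B Q : Subgroup G} (hBA : B ≤ A)
    (hqA : ¬ q ∣ Nat.card A) (hQ : Q ∈ Cfsg.invSubgroups H A {q}) :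
    (Nat.card B).Coprime (Nat.card Q) :=
  Nat.coprime_of_dvd fun r hr hrB hrQ => by
    have : r = q := hQ.2.1 r hr hrQ
    subst this
    exact hqA (hrB.trans (card_dvd_of_le hBA))

/-- BG 7.4. -/
theorem transHyp_transitive_two (hG : Cfsg.IsMinSimpleOddOrder G)
    (hA : Cfsg.TransitivityHypothesis A)
    (hZ : ¬ Cfsg.RankLE 1 ↥(A ⊓ centralizer (A : Set G))) {q : ℕ} (hq : q.Prime)
    (hqA : ¬ q ∣ Nat.card A) (hqC : q ∣ Nat.card (centralizer (A : Set G))) :
    ∀ Q₁ ∈ Cfsg.maxInvSubgroups ⊤ A {q}, ∀ Q₂ ∈ Cfsg.maxInvSubgroups ⊤ A {q},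
      ∃ k ∈ Cfsg.piCoreOf (Cfsg.primesNotDvd (Nat.card A)) (centralizer (A : Set G)),
        Q₂ = Q₁.map (MulAut.conj k).toMonoidHom := by
  haveI : Fact q.Prime := ⟨hq⟩
  obtain ⟨p, hp, B, hBZ, hB, hBc⟩ := exists_elementary_of_not_rankLE hZ
  haveI := Fact.mk hp
  obtain ⟨x, hx⟩ := exists_prime_orderOf_dvd_card' q hqC
  have hx1 : (x : G) ≠ 1 := by
    intro h
    apply hq.ne_one
    rw [← hx, orderOf_eq_one_iff]
    exact Subtype.ext h
  have hxA : A ≤ centralizer ({(x : G)} : Set G) := fun a ha =>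
    mem_centralizer_singleton_iff.2 (mem_centralizer_iff.1 x.2 a ha)
  have hxinv : zpowers (x : G) ∈ Cfsg.invSubgroups ⊤ A {q} := by
    refine ⟨le_top, isPiSubgroup_of_isPGroup ?_ rfl, ?_⟩
    · refine IsPGroup.of_card (n := 1) ?_
      rw [Nat.card_zpowers, Subgroup.orderOf_coe, hx, pow_one]
    · refine le_trans ?_ (centralizer_le_normalizer _)
      rw [zpowers_eq_closure, centralizer_closure]
      exact hxA
  obtain ⟨W, hW, hxW⟩ := exists_maxInv_ge hxinv
  have hWne : W ≠ ⊥ := fun h => hx1 (mem_bot.1 (h ▸ hxW (mem_zpowers _)))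
  have key : ∀ Q ∈ Cfsg.maxInvSubgroups ⊤ A {q},
      ∃ k ∈ Cfsg.piCoreOf (Cfsg.primesNotDvd (Nat.card A)) (centralizer (A : Set G)),
        Q = W.map (MulAut.conj k).toMonoidHom := by
    intro Q hQ
    have hQne : Q ≠ ⊥ := fun h => hWne (maxInv_eq_bot_of_bot_mem (h ▸ hQ) hW)
    have hBA : B ≤ A := hBZ.trans inf_le_left
    obtain ⟨b, hb, hb1, hbQ⟩ := exists_inf_centralizer_ne_bot hB.1
      (not_isCyclic_of_elementary hB hBc) (hBA.trans hQ.1.2.2)
      (coprime_card_of_mem_invSubgroups hBA hqA hQ.1) hQne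
    refine transHyp_meet_conj hG hA hq hqA hW hQ (minSimple_centralizer_singleton_ne_top hG hb1)
      (le_centralizer_singleton_of_mem_center (hBZ hb)) ?_ (by rwa [inf_comm])
    intro h
    apply hx1
    rw [← mem_bot, ← h]
    refine ⟨mem_centralizer_singleton_iff.2 ?_, hxW (mem_zpowers _)⟩
    exact (mem_centralizer_iff.1 x.2 b (hBA hb)).symm
  intro Q₁ h₁ Q₂ h₂
  obtain ⟨k₁, hk₁, e₁⟩ := key Q₁ h₁
  obtain ⟨k₂, hk₂, e₂⟩ := key Q₂ h₂
  refine ⟨k₂ * k₁⁻¹, mul_mem hk₂ (inv_mem hk₁), ?_⟩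
  rw [e₁, map_conj_map_conj, inv_mul_cancel_right, e₂]

/-- BG 7.3. -/
theorem transHyp_transitive_three (hG : Cfsg.IsMinSimpleOddOrder G)
    (hA : Cfsg.TransitivityHypothesis A)
    (hZ : ¬ Cfsg.RankLE 2 ↥(A ⊓ centralizer (A : Set G))) {q : ℕ} (hq : q.Prime)
    (hqA : ¬ q ∣ Nat.card A) :
    ∀ Q₁ ∈ Cfsg.maxInvSubgroups ⊤ A {q}, ∀ Q₂ ∈ Cfsg.maxInvSubgroups ⊤ A {q},
      ∃ k ∈ Cfsg.piCoreOf (Cfsg.primesNotDvd (Nat.card A)) (centralizer (A : Set G)),
        Q₂ = Q₁.map (MulAut.conj k).toMonoidHom := by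
  intro Q₁ h₁ Q₂ h₂
  by_cases hQ₁ : Q₁ = ⊥
  · refine ⟨1, one_mem _, ?_⟩
    rw [map_conj_one, hQ₁]
    exact maxInv_eq_bot_of_bot_mem (hQ₁ ▸ h₁) h₂
  have hQ₂ : Q₂ ≠ ⊥ := fun h => hQ₁ (maxInv_eq_bot_of_bot_mem (h ▸ h₂) h₁)
  obtain ⟨p, hp, B, hBZ, hB, hBc⟩ := exists_elementary_of_not_rankLE hZ
  haveI := Fact.mk hp
  have hBA : B ≤ A := hBZ.trans inf_le_left
  have hp2 : p ^ 2 ≤ p ^ 3 := Nat.pow_le_pow_right hp.pos (by omega)
  haveI := hB.1
  obtain ⟨b, hb, hb1, hbQ⟩ := exists_inf_centralizer_ne_bot hB.1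
    (not_isCyclic_of_elementary hB (hp2.trans hBc)) (hBA.trans h₁.1.2.2)
    (coprime_card_of_mem_invSubgroups hBA hqA h₁.1) hQ₁
  obtain ⟨B₁, hB₁, hbB₁, hcard⟩ := exists_subgroup_avoiding hB hb hb1
  have hB₁c : p ^ 2 ≤ Nat.card B₁ := by
    refine Nat.le_of_mul_le_mul_left ?_ hp.pos
    rw [← pow_succ']
    exact hBc.trans hcard
  set Q' := Q₁ ⊓ centralizer ({b} : Set G) with hQ'
  have hBQ' : B₁ ≤ normalizer (Q' : Set G) := by
    intro a ha
    have hac : a ∈ centralizer ({b} : Set G) :=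
      mem_centralizer_singleton_iff.2 (setLike_mul_comm (s := B) (hB₁ ha) hb)
    rw [mem_normalizer_iff]
    intro x
    exact and_congr (mem_normalizer_iff.1 (h₁.1.2.2 (hBA (hB₁ ha))) x)
      (mem_normalizer_iff.1 (le_normalizer hac) x)
  obtain ⟨c, hc, hc1, hcQ⟩ := exists_inf_centralizer_ne_bot
    (isElementaryAbelian_mono hB₁ hB).1
    (not_isCyclic_of_elementary (isElementaryAbelian_mono hB₁ hB) hB₁c) hBQ'
    ((coprime_card_of_mem_invSubgroups (hB₁.trans hBA) hqA h₁.1).coprime_dvd_right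
      (card_dvd_of_le inf_le_left)) hbQ
  set B₀ := closure ({b, c} : Set G) with hB₀
  have hB₀B : B₀ ≤ B := by
    rw [hB₀, closure_le]
    rintro x (rfl | rfl)
    exacts [hb, hB₁ hc]
  have hb₀ : b ∈ B₀ := subset_closure (by simp)
  have hc₀ : c ∈ B₀ := subset_closure (by simp)
  have hncyc : ¬ IsCyclic B₀ := by
    intro hcyc
    obtain ⟨g, hg⟩ := hcyc.exists_ofOrder_eq_natCard
    have hd : Nat.card B₀ ∣ p := hg ▸
      orderOf_dvd_of_pow_eq_one (Subtype.ext (by simpa using hB.2 g (hB₀B g.2)))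
    have hob : orderOf c = p := orderOf_eq_prime (hB.2 c (hB₁ hc)) hc1
    have h1 : zpowers c = B₀ := eq_of_le_of_card_ge (zpowers_le.2 hc₀)
      (by rw [Nat.card_zpowers, hob]; exact Nat.le_of_dvd hp.pos hd)
    exact hbB₁ (zpowers_le.2 hc (h1 ▸ hb₀))
  obtain ⟨d, hd, hd1, hdQ⟩ := exists_inf_centralizer_ne_bot
    (isElementaryAbelian_mono hB₀B hB).1 hncyc ((hB₀B.trans hBA).trans h₂.1.2.2)
    (coprime_card_of_mem_invSubgroups (hB₀B.trans hBA) hqA h₂.1) hQ₂
  refine transHyp_meet_conj hG hA hq hqA h₁ h₂ (minSimple_centralizer_singleton_ne_top hG hd1)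
    (le_centralizer_singleton_of_mem_center (hBZ (hB₀B hd))) ?_ (by rwa [inf_comm])
  intro h
  apply hcQ
  rw [eq_bot_iff, ← h]
  intro x hx
  refine ⟨?_, hx.1.1⟩
  have hsub : B₀ ≤ centralizer ({x} : Set G) := by
    rw [hB₀, closure_le]
    rintro y (rfl | rfl)
    · exact mem_centralizer_singleton_iff.2 (mem_centralizer_singleton_iff.1 hx.1.2).symm
    · exact mem_centralizer_singleton_iff.2 (mem_centralizer_singleton_iff.1 hx.2).symm
  exact mem_centralizer_singleton_iff.2 (mem_centralizer_singleton_iff.1 (hsub hd)).symm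

end CfsgLib.OddOrder
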