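import Cfsg.Agent.OddOrder.Setup
import Cfsg.Agent.OddOrder.PiCore
import Cfsg.Agent.Coprime.Action

/-!
# BG 7: the transitivity hypothesis in a minimal simple group of odd order

The transitivity hypothesis, the meet lemma BG 7.2 and the basic API of `maxInvSubgroups`.
-/

set_option autoImplicit false
set_option linter.style.haveILetI false

namespace CfsgLib.OddOrder

open Cfsg Subgroup
open Pointwise

variable {G : Type*} [Group G]

theorem mem_invSubgroups_top {A Y : Subgroup G} {π : Set ℕ} :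
    Y ∈ Cfsg.invSubgroups ⊤ A π ↔ IsPiSubgroup π Y ∧ A ≤ normalizer (Y : Set G) :=
  ⟨fun h => ⟨h.2.1, h.2.2⟩, fun h => ⟨le_top, h.1, h.2⟩⟩

theorem exists_maxInv_ge [Finite G] {H A Y : Subgroup G} {π : Set ℕ}
    (hY : Y ∈ Cfsg.invSubgroups H A π) : ∃ Q ∈ Cfsg.maxInvSubgroups H A π, Y ≤ Q := by
  obtain ⟨Q, hQ, hmax⟩ := (Set.toFinite (Cfsg.invSubgroups H A π)).exists_le_maximal hY
  exact ⟨Q, ⟨hmax.1, fun R hR hQR => le_antisymm (hmax.2 hR hQR) hQR⟩, hQ⟩

theorem bot_mem_invSubgroups (H A : Subgroup G) (π : Set ℕ) :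
    (⊥ : Subgroup G) ∈ Cfsg.invSubgroups H A π :=
  ⟨bot_le, isPiSubgroup_bot π, by rw [normalizer_eq_top_iff.2 inferInstance]; exact le_top⟩

/-- If `⊥` is a maximal invariant subgroup, it is the only one. -/
theorem maxInv_eq_bot_of_bot_mem {H A Q : Subgroup G} {π : Set ℕ}
    (h : (⊥ : Subgroup G) ∈ Cfsg.maxInvSubgroups H A π) (hQ : Q ∈ Cfsg.maxInvSubgroups H A π) :
    Q = ⊥ := h.2 Q hQ.1 bot_le

theorem map_conj_mem_invSubgroups {A Y : Subgroup G} {π : Set ℕ} {k : G}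
    (hk : k ∈ normalizer (A : Set G)) (hY : Y ∈ Cfsg.invSubgroups ⊤ A π) :
    Y.map (MulAut.conj k).toMonoidHom ∈ Cfsg.invSubgroups ⊤ A π := by
  obtain ⟨h1, h2⟩ := mem_invSubgroups_top.1 hY
  refine mem_invSubgroups_top.2 ⟨isPiSubgroup_map _ h1, ?_⟩
  rw [← map_conj_normalizer, ← map_conj_eq_self_iff.2 hk]
  exact map_mono h2

theorem map_conj_mem_maxInv {A Q : Subgroup G} {π : Set ℕ} {k : G}
    (hk : k ∈ normalizer (A : Set G)) (hQ : Q ∈ Cfsg.maxInvSubgroups ⊤ A π) :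
    Q.map (MulAut.conj k).toMonoidHom ∈ Cfsg.maxInvSubgroups ⊤ A π := by
  refine ⟨map_conj_mem_invSubgroups hk hQ.1, fun R hR hle => ?_⟩
  have h := map_mono (f := (MulAut.conj k⁻¹).toMonoidHom) hle
  rw [map_conj_map_conj, inv_mul_cancel, map_conj_one] at h
  rw [← hQ.2 _ (map_conj_mem_invSubgroups (inv_mem hk) hR) h, map_conj_map_conj, mul_inv_cancel,
    map_conj_one]

variable [Finite G] {A : Subgroup G}

theorem coprime_card_primesNotDvd_piCoreOf (n : ℕ) (X : Subgroup G) :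
    n.Coprime (Nat.card (Cfsg.piCoreOf (Cfsg.primesNotDvd n) X)) :=
  coprime_card_primesNotDvd (isPiSubgroup_piCoreOf _ X)

/-- Under the transitivity hypothesis every `A`-invariant `π(A)'`-subgroup of a proper `X ≥ A`
lies in `O_{π(A)'}(X)`. -/
theorem transHyp_le_piCoreOf (hA : Cfsg.TransitivityHypothesis A) {X Y : Subgroup G}
    (hX : X ≠ ⊤) (hAX : A ≤ X) (hYX : Y ≤ X)
    (hY : IsPiSubgroup (Cfsg.primesNotDvd (Nat.card A)) Y) (hAY : A ≤ normalizer (Y : Set G)) :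
    Y ≤ Cfsg.piCoreOf (Cfsg.primesNotDvd (Nat.card A)) X :=
  hA.2.2 X hX hAX ▸ le_sSup ⟨hYX, hY, hAY⟩

/-- Under the transitivity hypothesis `O_{π(A)'}(C_G(A))` contains every `π(A)'`-subgroup of
`C_G(A)`. -/
theorem transHyp_le_core_centralizer (hG : Cfsg.IsMinSimpleOddOrder G)
    (hA : Cfsg.TransitivityHypothesis A) {Y : Subgroup G}
    (hY : IsPiSubgroup (Cfsg.primesNotDvd (Nat.card A)) Y)
    (hYC : Y ≤ centralizer (A : Set G)) :
    Y ≤ Cfsg.piCoreOf (Cfsg.primesNotDvd (Nat.card A)) (centralizer (A : Set G)) := by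
  set π := Cfsg.primesNotDvd (Nat.card A) with hπ
  set X := A ⊔ centralizer (A : Set G) with hX
  have hXN : X ≤ normalizer (A : Set G) := sup_le le_normalizer (centralizer_le_normalizer _)
  have hXt : X ≠ ⊤ :=
    ne_top_of_le_ne_top (minSimple_normalizer_ne_top hG hA.1 hA.2.1) hXN
  have hAY : A ≤ normalizer (Y : Set G) :=
    (le_centralizer_iff.1 hYC).trans (centralizer_le_normalizer _)
  refine (transHyp_le_piCoreOf hA hXt le_sup_left (hYC.trans le_sup_right) hY hAY).trans ?_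
  set O := Cfsg.piCoreOf π X with hO
  have hAO : A ≤ normalizer (O : Set G) := le_sup_left.trans (le_normalizer_piCoreOf π X)
  have hdisj : O ⊓ A = ⊥ :=
    Subgroup.inf_eq_bot_of_coprime (coprime_card_primesNotDvd_piCoreOf _ X).symm
  have hOC : O ≤ centralizer (A : Set G) := by
    intro l hl
    refine Coprime.mem_centralizer_of_normalizer (hXN (piCoreOf_le π X hl)) hdisj fun a ha => ?_
    rw [mul_assoc l a l⁻¹, mul_assoc l (a * l⁻¹) a⁻¹]
    exact mul_mem hl ((mem_normalizer_iff.1 (hAO ha) _).1 (inv_mem hl))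
  exact le_piCoreOf hOC (le_sup_right.trans (le_normalizer_piCoreOf π X))
    (isPiSubgroup_piCoreOf π X)

theorem core_centralizer_le_normalizer (π : Set ℕ) :
    Cfsg.piCoreOf π (centralizer (A : Set G)) ≤ normalizer (A : Set G) :=
  (piCoreOf_le _ _).trans (centralizer_le_normalizer _)

/-- Two `A`-invariant `q`-subgroups of a proper subgroup containing `A` lie in invariant
`q`-subgroups conjugate under `O_{π(A)'}(C_G(A))`. -/
theorem transHyp_exists_conj_ge (hG : Cfsg.IsMinSimpleOddOrder G)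
    (hA : Cfsg.TransitivityHypothesis A) {q : ℕ} (hq : q.Prime) (hqA : ¬ q ∣ Nat.card A)
    {X Y₁ Y₂ : Subgroup G} (hX : X ≠ ⊤) (hAX : A ≤ X)
    (h₁ : Y₁ ∈ Cfsg.invSubgroups X A {q}) (h₂ : Y₂ ∈ Cfsg.invSubgroups X A {q}) :
    ∃ R ∈ Cfsg.invSubgroups X A {q},
      ∃ k ∈ Cfsg.piCoreOf (Cfsg.primesNotDvd (Nat.card A)) (centralizer (A : Set G)),
        Y₁ ≤ R ∧ Y₂ ≤ R.map (MulAut.conj k).toMonoidHom := by
  haveI : Fact q.Prime := ⟨hq⟩
  set π := Cfsg.primesNotDvd (Nat.card A) with hπ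
  have hqπ : ({q} : Set ℕ) ⊆ π := by
    rintro r rfl
    exact ⟨hq, hqA⟩
  set L := Cfsg.piCoreOf π X with hL
  have hLX : L ≤ X := piCoreOf_le π X
  have hAL : A ≤ normalizer (L : Set G) := hAX.trans (le_normalizer_piCoreOf π X)
  have hcop := coprime_card_primesNotDvd_piCoreOf (G := G) (Nat.card A) X
  have hsolv : Group.IsSolvable A ∨ Group.IsSolvable L :=
    Or.inl (minSimple_solvable hG hA.2.1)
  obtain ⟨P₁, hP₁, hA₁⟩ := Coprime.exists_invariant_sylow_ge hAL hcop hsolv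
    (transHyp_le_piCoreOf hA hX hAX h₁.1 (isPiSubgroup_of_subset hqπ h₁.2.1) h₁.2.2)
    (isPGroup_of_isPiSubgroup h₁.2.1) h₁.2.2
  obtain ⟨P₂, hP₂, hA₂⟩ := Coprime.exists_invariant_sylow_ge hAL hcop hsolv
    (transHyp_le_piCoreOf hA hX hAX h₂.1 (isPiSubgroup_of_subset hqπ h₂.2.1) h₂.2.2)
    (isPGroup_of_isPiSubgroup h₂.2.1) h₂.2.2
  obtain ⟨g, hg, hgP⟩ := Coprime.exists_conj_map_sylow P₁ P₂
  obtain ⟨k, hk, hkP⟩ := Coprime.exists_conj_eq_of_invariant hAL hcop hsolv hA₁ hA₂ hg hgP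
  refine ⟨(P₁ : Subgroup L).map L.subtype,
    ⟨(map_subtype_le _).trans hLX, isPiSubgroup_of_isPGroup (P₁.isPGroup'.map _) rfl, hA₁⟩,
    k, ?_, hP₁, ?_⟩
  · exact transHyp_le_core_centralizer hG hA
      (isPiSubgroup_mono inf_le_left (isPiSubgroup_piCoreOf π X)) inf_le_right hk
  · exact hP₂.trans hkP.ge

/-- BG 7.2: two maximal `A`-invariant `q`-subgroups meeting a proper subgroup containing `A`
nontrivially are conjugate under `O_{π(A)'}(C_G(A))`. -/
theorem transHyp_meet_conj (hG : Cfsg.IsMinSimpleOddOrder G)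
    (hA : Cfsg.TransitivityHypothesis A) {q : ℕ} (hq : q.Prime) (hqA : ¬ q ∣ Nat.card A)
    {Q₁ Q₂ H : Subgroup G} (h₁ : Q₁ ∈ Cfsg.maxInvSubgroups ⊤ A {q})
    (h₂ : Q₂ ∈ Cfsg.maxInvSubgroups ⊤ A {q}) (hH : H ≠ ⊤) (hAH : A ≤ H)
    (hH₁ : H ⊓ Q₁ ≠ ⊥) (hH₂ : H ⊓ Q₂ ≠ ⊥) :
    ∃ k ∈ Cfsg.piCoreOf (Cfsg.primesNotDvd (Nat.card A)) (centralizer (A : Set G)),
      Q₂ = Q₁.map (MulAut.conj k).toMonoidHom := by
  haveI : Fact q.Prime := ⟨hq⟩
  set K := Cfsg.piCoreOf (Cfsg.primesNotDvd (Nat.card A)) (centralizer (A : Set G)) with hK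
  have hKN : K ≤ normalizer (A : Set G) := core_centralizer_le_normalizer _
  have hinv : ∀ {X Q : Subgroup G}, A ≤ X → Q ∈ Cfsg.maxInvSubgroups ⊤ A {q} →
      X ⊓ Q ∈ Cfsg.invSubgroups X A {q} := by
    intro X Q hAX hQ
    refine ⟨inf_le_left, isPiSubgroup_mono inf_le_right hQ.1.2.1, fun a ha => ?_⟩
    rw [mem_normalizer_iff]
    intro x
    exact and_congr (mem_normalizer_iff.1 (le_normalizer (hAX ha) : a ∈ normalizer (X : Set G)) x)
      (mem_normalizer_iff.1 (hQ.1.2.2 ha) x)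
  have hne : ∀ {Y R : Subgroup G}, Y ≠ ⊥ → Y ≤ R → R ≠ ⊥ := fun hY hle hR =>
    hY (le_bot_iff.1 (hR ▸ hle))
  -- conjugacy of two maximal members with nontrivial intersection
  have meet : ∀ n : ℕ, ∀ U V : Subgroup G, Nat.card G - Nat.card ↥(U ⊓ V) = n →
      U ∈ Cfsg.maxInvSubgroups ⊤ A {q} → V ∈ Cfsg.maxInvSubgroups ⊤ A {q} → U ⊓ V ≠ ⊥ →
      ∃ k ∈ K, V = U.map (MulAut.conj k).toMonoidHom := by
    intro n
    induction n using Nat.strong_induction_on with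
    | _ n ih =>
    intro U V hn hU hV hP
    by_cases hUV : U ⊓ V = U
    · exact ⟨1, one_mem _, by rw [map_conj_one]; exact hU.2 V hV.1 (inf_eq_left.1 hUV)⟩
    have hVU : U ⊓ V ≠ V := by
      intro h
      have := hV.2 U hU.1 (inf_eq_right.1 h)
      exact hUV (by rw [← this, inf_idem])
    set P := U ⊓ V with hPdef
    have hUp := isPGroup_of_isPiSubgroup hU.1.2.1
    have hVp := isPGroup_of_isPiSubgroup hV.1.2.1
    set X := normalizer (P : Set G) with hXdef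
    have hX : X ≠ ⊤ := minSimple_normalizer_ne_top hG hP
      (minSimple_ne_top_of_isPGroup hG (hUp.to_le inf_le_left))
    have hAX : A ≤ X := by
      intro a ha
      rw [hXdef, mem_normalizer_iff]
      intro x
      exact and_congr (mem_normalizer_iff.1 (hU.1.2.2 ha) x) (mem_normalizer_iff.1 (hV.1.2.2 ha) x)
    have grow : ∀ {W : Subgroup G}, IsPGroup q W → P ≤ W → P ≠ W → P < X ⊓ W := by
      intro W hW hle hne'
      haveI := hW.isNilpotent
      refine lt_of_le_of_ne (le_inf le_normalizer hle) fun heq => ?_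
      have hlt : P.subgroupOf W < ⊤ := by
        refine lt_top_iff_ne_top.2 fun h => hne' (le_antisymm hle ?_)
        exact subgroupOf_eq_top.1 h
      have h2 := Group.normalizerCondition_of_isNilpotent _ hlt
      rw [← subgroupOf_normalizer_eq hle] at h2
      have h3 := h2
      rw [show (normalizer (P : Set G)).subgroupOf W = (X ⊓ W).subgroupOf W by
        rw [inf_subgroupOf_right], ← heq] at h3
      exact lt_irrefl _ h3
    have hgU : P < X ⊓ U := grow hUp inf_le_left hUV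
    have hgV : P < X ⊓ V := grow hVp inf_le_right hVU
    obtain ⟨R, hR, k, hk, hUR, hVR⟩ :=
      transHyp_exists_conj_ge hG hA hq hqA hX hAX (hinv hAX hU) (hinv hAX hV)
    obtain ⟨W, hW, hRW⟩ := exists_maxInv_ge (mem_invSubgroups_top.2 hR.2)
    have hW' : W.map (MulAut.conj k).toMonoidHom ∈ Cfsg.maxInvSubgroups ⊤ A {q} :=
      map_conj_mem_maxInv (hKN hk) hW
    have step : ∀ {S T : Subgroup G} {Y : Subgroup G}, P < Y → Y ≤ S ⊓ T →
        Nat.card G - Nat.card ↥(S ⊓ T) < n := by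
      intro S T Y hY hle
      have h1 : Nat.card P < Nat.card ↥(S ⊓ T) :=
        Set.ncard_lt_ncard (hY.trans_le hle) (Set.toFinite _)
      have h2 : Nat.card ↥(S ⊓ T) ≤ Nat.card G := card_le_card_group _
      omega
    have hle1 : X ⊓ U ≤ U ⊓ W := le_inf inf_le_right (hUR.trans hRW)
    have hle2 : X ⊓ V ≤ W.map (MulAut.conj k).toMonoidHom ⊓ V :=
      le_inf (hVR.trans (map_mono hRW)) inf_le_right
    obtain ⟨k₁, hk₁, e₁⟩ := ih _ (step hgU hle1) U W rfl hU hW (hne (hne hP hgU.le) hle1)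
    obtain ⟨k₂, hk₂, e₂⟩ := ih _ (step hgV hle2) _ V rfl hW' hV (hne (hne hP hgV.le) hle2)
    exact ⟨k₂ * (k * k₁), mul_mem hk₂ (mul_mem hk hk₁),
      by rw [e₂, e₁, map_conj_map_conj, map_conj_map_conj, mul_assoc]⟩
  obtain ⟨R, hR, k, hk, h1R, h2R⟩ :=
    transHyp_exists_conj_ge hG hA hq hqA hH hAH (hinv hAH h₁) (hinv hAH h₂)
  obtain ⟨W, hW, hRW⟩ := exists_maxInv_ge (mem_invSubgroups_top.2 hR.2)
  have hW' : W.map (MulAut.conj k).toMonoidHom ∈ Cfsg.maxInvSubgroups ⊤ A {q} :=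
    map_conj_mem_maxInv (hKN hk) hW
  obtain ⟨k₁, hk₁, e₁⟩ := meet _ Q₁ W rfl h₁ hW
    (hne hH₁ (le_inf inf_le_right (h1R.trans hRW)))
  obtain ⟨k₂, hk₂, e₂⟩ := meet _ _ Q₂ rfl hW' h₂
    (hne hH₂ (le_inf (h2R.trans (map_mono hRW)) inf_le_right))
  exact ⟨k₂ * (k * k₁), mul_mem hk₂ (mul_mem hk hk₁),
    by rw [e₂, e₁, map_conj_map_conj, map_conj_map_conj, mul_assoc]⟩

end CfsgLib.OddOrder
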