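import Cfsg.Agent.OddOrder.BG7.SCN
import Cfsg.Agent.OddOrder.BG9.LocalFrattini
import Cfsg.Agent.SolvCrit.ZJBasic
import Cfsg.Agent.S1457
import Cfsg.Agent.S1458

/-!
# The p-stability and ZJ inputs of BG 7-9

`AbelianNormalBound` and `ZJBound` hold in a minimal simple group of odd order, by S1457 and S1458.
-/

set_option autoImplicit false
set_option linter.style.haveILetI false

namespace CfsgLib.OddOrder

open Cfsg Subgroup
open CfsgLib.ConjFunctor (IsSylowIn)

variable {G : Type*} [Group G] [Finite G]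

theorem abelianNormalBound (hG : Cfsg.IsMinSimpleOddOrder G) (p : ℕ) [Fact p.Prime] :
    AbelianNormalBound p G := fun H hH S D hDS hD hSD =>
  haveI := minSimple_solvable hG hH
  Cfsg.Agent.S1457.result (minSimple_odd_subgroup hG H) p S D hDS hD hSD

/-- The Frattini argument applied to the normal subgroup `Z(J(S)) O_{p'}(X)`. -/
theorem normalizer_centerThompson_sup_pPrimeCore {H : Type*} [Group H] [Finite H]
    [Group.IsSolvable H] (hodd : Odd (Nat.card H)) (p : ℕ) [Fact p.Prime] (S : Sylow p H) :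
    normalizer (Cfsg.centerThompsonOf p (S : Subgroup H) : Set H) ⊔ Cfsg.pPrimeCore p H = ⊤ := by
  set Z := Cfsg.centerThompsonOf p (S : Subgroup H) with hZ
  set N := Cfsg.pPrimeCore p H with hN
  haveI : N.Normal := normal_of_characteristic _
  haveI : (Z ⊔ N).Normal := Cfsg.Agent.S1458.result hodd p S
  have hZp : IsPGroup p Z := S.isPGroup'.to_le (centerThompsonOf_le p _)
  have hcop : (Nat.card N).Coprime p := PLocal.coprime_card_pPrimeCore p H
  have hidx : ¬ p ∣ (Z.subgroupOf (Z ⊔ N)).index := by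
    intro h
    have h1 : Z.relIndex (Z ⊔ N) ∣ Nat.card N := by
      have e1 := relIndex_mul_relIndex (⊥ : Subgroup H) Z (Z ⊔ N) bot_le le_sup_left
      have e2 := relIndex_mul_relIndex (⊥ : Subgroup H) N (Z ⊔ N) bot_le le_sup_right
      rw [relIndex_bot_left, relIndex_bot_left] at e1 e2
      rw [relIndex_sup_right] at e2
      refine Nat.dvd_of_mul_dvd_mul_left (Nat.card_pos (α := Z)) ?_
      rw [e1, ← e2, mul_comm (Nat.card Z)]
      exact mul_dvd_mul_left _ (relIndex_dvd_card N Z)
    have := (Nat.dvd_gcd (h.trans h1) dvd_rfl)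
    rw [hcop] at this
    exact (Fact.out : p.Prime).not_dvd_one this
  let Z' : Sylow p ↥(Z ⊔ N) := (hZp.comap_subtype (K := Z ⊔ N)).toSylow hidx
  have hmap : (Z' : Subgroup ↥(Z ⊔ N)).map (Z ⊔ N).subtype = Z :=
    map_subgroupOf_eq_of_le le_sup_left
  have h := Sylow.normalizer_sup_eq_top (N := Z ⊔ N) Z'
  rw [hmap, ← sup_assoc, sup_eq_left.2 le_normalizer] at h
  exact h

theorem zjBound (hG : Cfsg.IsMinSimpleOddOrder G) (p : ℕ) [Fact p.Prime] : ZJBound p G := by
  intro X S hX hS
  haveI := minSimple_solvable hG hX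
  let S' : Sylow p X := (hS.2.1.comap_subtype (K := X)).toSylow hS.2.2
  have hS' : (S' : Subgroup X).map X.subtype = S := map_subgroupOf_eq_of_le hS.1
  have h := map_mono (f := X.subtype)
    (normalizer_centerThompson_sup_pPrimeCore (minSimple_odd_subgroup hG X) p S').ge
  rw [← MonoidHom.range_eq_map, range_subtype, Subgroup.map_sup,
    ← piCoreOf_primesNotDvd_eq] at h
  refine h.trans (sup_le (le_trans ?_ le_sup_right) le_sup_left)
  refine le_inf (map_subtype_le _) ?_
  refine (le_normalizer_map X.subtype).trans (le_of_eq ?_)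
  rw [SolvCrit.map_centerThompson X.subtype X.subtype_injective, hS']

end CfsgLib.OddOrder
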